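import Mathlib

/-!
# Groups of additive automorphisms of `F²` containing `SL₂(F)` with the same Sylow subgroups
-/

set_option autoImplicit false
set_option linter.unusedSectionVars false

namespace Cfsg.Lib.Local.SL2Embed

open Subgroup Matrix
open scoped MatrixGroups

variable {p : ℕ} [Fact p.Prime] {F : Type*} [Field F] [Algebra (ZMod p) F]

/-- The additive endomorphisms of the natural module. -/
abbrev End2 (p : ℕ) (F : Type*) [Field F] [Algebra (ZMod p) F] := Module.End (ZMod p) (Fin 2 → F)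

/-- The additive automorphisms of the natural module. -/
abbrev Aut2 (p : ℕ) (F : Type*) [Field F] [Algebra (ZMod p) F] := (End2 p F)ˣ

/-- A matrix as an additive endomorphism. -/
def mat : Matrix (Fin 2) (Fin 2) F →* End2 p F where
  toFun M := (Matrix.mulVecLin M).restrictScalars (ZMod p)
  map_one' := LinearMap.ext fun w => Matrix.one_mulVec w
  map_mul' M N := LinearMap.ext fun w => (Matrix.mulVec_mulVec w M N).symm

/-- The special linear group inside the additive automorphisms. -/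
def slU : SL(2, F) →* Aut2 p F :=
  MonoidHom.toHomUnits (mat.comp
    { toFun := fun A => (A : Matrix (Fin 2) (Fin 2) F), map_one' := rfl, map_mul' := fun _ _ => rfl })

theorem slU_smul (A : SL(2, F)) (w : Fin 2 → F) :
    (slU A : Aut2 p F) • w = (A : Matrix (Fin 2) (Fin 2) F) *ᵥ w := rfl

theorem mulVec_two' (M : Matrix (Fin 2) (Fin 2) F) (x : Fin 2 → F) :
    M *ᵥ x = ![M 0 0 * x 0 + M 0 1 * x 1, M 1 0 * x 0 + M 1 1 * x 1] := by
  ext i
  fin_cases i <;> simp [Matrix.mulVec, dotProduct, Fin.sum_univ_two]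

theorem vec_eq (w : Fin 2 → F) : w = ![w 0, w 1] := by funext i; fin_cases i <;> rfl

theorem slU_injective : Function.Injective (slU (p := p) (F := F)) := fun A B h => by
  refine Subtype.ext (Matrix.ext_of_mulVec_single fun j => ?_)
  rw [← slU_smul (p := p), ← slU_smul (p := p), h]

/-- The upper unitriangular element. -/
def upM (b : F) : SL(2, F) := ⟨!![1, b; 0, 1], by simp [Matrix.det_fin_two_of]⟩

/-- The lower unitriangular element. -/
def loM (b : F) : SL(2, F) := ⟨!![1, 0; b, 1], by simp [Matrix.det_fin_two_of]⟩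

/-- The diagonal element. -/
def dgM {l : F} (hl : l ≠ 0) : SL(2, F) := ⟨!![l, 0; 0, l⁻¹], by simp [Matrix.det_fin_two_of, hl]⟩

/-- The root elements. -/
def uU (b : F) : Aut2 p F := slU (upM b)

theorem uU_smul (b : F) (w : Fin 2 → F) : (uU b : Aut2 p F) • w = ![w 0 + b * w 1, w 1] := by
  rw [uU, slU_smul, mulVec_two']
  simp [upM]

theorem loM_smul (b : F) (w : Fin 2 → F) :
    (slU (loM b) : Aut2 p F) • w = ![w 0, b * w 0 + w 1] := by
  rw [slU_smul, mulVec_two']
  simp [loM]

theorem dgM_smul {l : F} (hl : l ≠ 0) (w : Fin 2 → F) :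
    (slU (dgM hl) : Aut2 p F) • w = ![l * w 0, l⁻¹ * w 1] := by
  rw [slU_smul, mulVec_two']
  simp [dgM]

theorem smul_smul_ext {g h : Aut2 p F} (H : ∀ w : Fin 2 → F, g • w = h • w) : g = h :=
  Units.ext (LinearMap.ext H)

theorem uU_add (b c : F) : (uU (b + c) : Aut2 p F) = uU b * uU c :=
  smul_smul_ext fun w => by
    rw [mul_smul, uU_smul, uU_smul, uU_smul]
    funext i; fin_cases i <;> simp <;> ring

theorem uU_zero : (uU (0 : F) : Aut2 p F) = 1 :=
  smul_smul_ext fun w => by rw [uU_smul, one_smul]; simp [← vec_eq]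

theorem uU_injective : Function.Injective (uU (p := p) (F := F)) := fun b c h => by
  have h' := congrFun (congrArg (fun g : Aut2 p F => g • (![0, 1] : Fin 2 → F)) h) 0
  simpa [uU_smul] using h'

/-- The root group as a homomorphism. -/
def uHom : Multiplicative F →* Aut2 p F where
  toFun b := uU b.toAdd
  map_one' := uU_zero
  map_mul' b c := uU_add b.toAdd c.toAdd

/-- The group of upper unitriangular elements. -/
def UU (p : ℕ) [Fact p.Prime] (F : Type*) [Field F] [Algebra (ZMod p) F] : Subgroup (Aut2 p F) :=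
  (uHom (p := p) (F := F)).range

theorem mem_UU {g : Aut2 p F} : g ∈ UU p F ↔ ∃ b, uU b = g :=
  ⟨fun ⟨b, hb⟩ => ⟨b.toAdd, hb⟩, fun ⟨b, hb⟩ => ⟨Multiplicative.ofAdd b, hb⟩⟩

theorem uU_pow_p (b : F) : (uU b : Aut2 p F) ^ p = 1 := by
  haveI : CharP F p := charP_of_injective_algebraMap (algebraMap (ZMod p) F).injective p
  rw [← show uHom (Multiplicative.ofAdd b) = uU b from rfl, ← map_pow, ← ofAdd_nsmul, nsmul_eq_mul,
    CharP.cast_eq_zero, zero_mul, ofAdd_zero, map_one]

/-- An element fixes exactly the first axis. -/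
theorem uU_fix {b : F} (hb : b ≠ 0) (w : Fin 2 → F) : (uU b : Aut2 p F) • w = w ↔ w 1 = 0 := by
  rw [uU_smul]
  constructor
  · intro h
    simpa [hb] using congrFun h 0
  · intro h
    funext i; fin_cases i <;> simp [h]

/-- Semilinearity for a map of scalars. -/
def Semi (σ : F → F) (g : Aut2 p F) : Prop := ∀ (c : F) (w : Fin 2 → F), g • (c • w) = σ c • g • w

theorem Semi.sl (A : SL(2, F)) : Semi id (slU A : Aut2 p F) := fun c w => by
  rw [slU_smul, slU_smul, Matrix.mulVec_smul]; rfl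

theorem Semi.mul {σ τ : F → F} {g h : Aut2 p F} (hg : Semi σ g) (hh : Semi τ h) :
    Semi (σ ∘ τ) (g * h) := fun c w => by
  rw [mul_smul, hh, hg, mul_smul]; rfl

theorem Semi.injective {σ : F → F} {g : Aut2 p F} (hg : Semi σ g) : Function.Injective σ := by
  intro c d h
  have h1 : g • (c • (![1, 0] : Fin 2 → F)) = g • (d • (![1, 0] : Fin 2 → F)) := by rw [hg, hg, h]
  simpa using congrFun (MulAction.injective g h1) 0

theorem Semi.unique {σ τ : F → F} {g : Aut2 p F} (hg : Semi σ g) (hg' : Semi τ g) : σ = τ := by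
  funext c
  have h : σ c • g • (![1, 0] : Fin 2 → F) = τ c • g • (![1, 0] : Fin 2 → F) := by rw [← hg, hg']
  by_contra hne
  rw [← sub_eq_zero, ← sub_smul, smul_eq_zero, sub_eq_zero] at h
  have h1 : g • (![1, 0] : Fin 2 → F) = g • (0 : Fin 2 → F) := by rw [h.resolve_left hne, smul_zero]
  simpa using congrFun (MulAction.injective g h1) 0

theorem Semi.map_mul {σ : F → F} {g : Aut2 p F} (hg : Semi σ g) (c d : F) : σ (c * d) = σ c * σ d := by
  have h : Semi σ g := hg
  have h1 : σ (c * d) • g • (![1, 0] : Fin 2 → F) = (σ c * σ d) • g • (![1, 0] : Fin 2 → F) := by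
    rw [← hg, mul_smul, hg, hg, mul_smul]
  by_contra hne
  rw [← sub_eq_zero, ← sub_smul, smul_eq_zero, sub_eq_zero] at h1
  have h2 : g • (![1, 0] : Fin 2 → F) = g • (0 : Fin 2 → F) := by rw [h1.resolve_left hne, smul_zero]
  simpa using congrFun (MulAction.injective g h2) 0

theorem Semi.map_add {σ : F → F} {g : Aut2 p F} (hg : Semi σ g) (c d : F) : σ (c + d) = σ c + σ d := by
  have h1 : σ (c + d) • g • (![1, 0] : Fin 2 → F) = (σ c + σ d) • g • (![1, 0] : Fin 2 → F) := by
    rw [← hg, add_smul, smul_add, hg, hg, add_smul]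
  by_contra hne
  rw [← sub_eq_zero, ← sub_smul, smul_eq_zero, sub_eq_zero] at h1
  have h2 : g • (![1, 0] : Fin 2 → F) = g • (0 : Fin 2 → F) := by rw [h1.resolve_left hne, smul_zero]
  simpa using congrFun (MulAction.injective g h2) 0

variable [Finite F]

theorem Semi.surjective {σ : F → F} {g : Aut2 p F} (hg : Semi σ g) : Function.Surjective σ :=
  Finite.injective_iff_surjective.1 hg.injective

/-- The field automorphism of a semilinear map. -/
noncomputable def Semi.aut {σ : F → F} {g : Aut2 p F} (hg : Semi σ g) : F ≃+* F :=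
  { Equiv.ofBijective σ ⟨hg.injective, hg.surjective⟩ with
    map_mul' := hg.map_mul
    map_add' := hg.map_add }

theorem Semi.aut_apply {σ : F → F} {g : Aut2 p F} (hg : Semi σ g) (c : F) : hg.aut c = σ c := rfl

theorem Semi.smul_eq {σ : F → F} {g : Aut2 p F} (hg : Semi σ g) (w : Fin 2 → F) :
    g • w = σ (w 0) • g • (![1, 0] : Fin 2 → F) + σ (w 1) • g • (![0, 1] : Fin 2 → F) := by
  rw [← hg, ← hg, ← smul_add]
  congr 1
  funext i; fin_cases i <;> simp

/-- Semilinear automorphisms normalise the special linear group. -/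
theorem Semi.normalizes {σ : F → F} {g : Aut2 p F} (hg : Semi σ g) (A : SL(2, F)) :
    g * slU A * g⁻¹ ∈ (slU (p := p) (F := F)).range := by
  obtain ⟨s, hs⟩ : ∃ s : F →+* F, ∀ c, s c = σ c := ⟨hg.aut.toRingHom, fun c => rfl⟩
  obtain rfl : σ = ⇑s := funext fun c => (hs c).symm
  let P : Matrix (Fin 2) (Fin 2) F :=
    !![(g • (![1, 0] : Fin 2 → F)) 0, (g • (![0, 1] : Fin 2 → F)) 0;
       (g • (![1, 0] : Fin 2 → F)) 1, (g • (![0, 1] : Fin 2 → F)) 1]
  have hP : ∀ w : Fin 2 → F, g • w = P *ᵥ fun i => s (w i) := fun w => by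
    rw [hg.smul_eq, mulVec_two']
    funext i; fin_cases i <;> simp [P, mul_comm]
  have hdet : IsUnit P.det := by
    rw [← Matrix.isUnit_iff_isUnit_det, ← Matrix.mulVec_surjective_iff_isUnit]
    intro w
    exact ⟨fun i => s ((g⁻¹ • w) i), by rw [← hP, smul_inv_smul]⟩
  let B : SL(2, F) := ⟨P * s.mapMatrix (A : Matrix (Fin 2) (Fin 2) F) * P⁻¹, by
    rw [Matrix.det_mul, Matrix.det_mul, ← RingHom.map_det, A.2, map_one, mul_one, ← Matrix.det_mul,
      Matrix.mul_nonsing_inv _ hdet, Matrix.det_one]⟩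
  have hBP : (B : Matrix (Fin 2) (Fin 2) F) * P = P * s.mapMatrix (A : Matrix (Fin 2) (Fin 2) F) :=
    Matrix.nonsing_inv_mul_cancel_right P _ hdet
  refine ⟨B, eq_mul_inv_iff_mul_eq.2 (smul_smul_ext fun w => ?_)⟩
  have hσ : (fun i => s (((A : Matrix (Fin 2) (Fin 2) F) *ᵥ w) i)) =
      s.mapMatrix (A : Matrix (Fin 2) (Fin 2) F) *ᵥ fun i => s (w i) :=
    funext fun i => RingHom.map_mulVec s _ w i
  rw [mul_smul, mul_smul, slU_smul, slU_smul, hP w, hP ((A : Matrix (Fin 2) (Fin 2) F) *ᵥ w), hσ,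
    Matrix.mulVec_mulVec, Matrix.mulVec_mulVec, hBP]

/-- An endomorphism commuting with the special linear group is a scalar. -/
theorem scalar_of_commute_gens {h : Aut2 p F} (hcu : ∀ b, h * slU (upM b) = slU (upM b) * h)
    (hcl : ∀ b, h * slU (loM b) = slU (loM b) * h) (w : Fin 2 → F) :
    h • w = (h • (![0, 1] : Fin 2 → F)) 1 • w := by
  set α := (h • (![0, 1] : Fin 2 → F)) 1
  have h1 : ∀ b, h • (![b, 0] : Fin 2 → F) = ![b * α, 0] := fun b => by
    have e := congrArg (fun g : Aut2 p F => g • (![0, 1] : Fin 2 → F)) (hcu b)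
    simp only [mul_smul] at e
    rw [← show (uU b : Aut2 p F) = slU (upM b) from rfl, uU_smul, uU_smul] at e
    have : (![(![(0 : F), 1] : Fin 2 → F) 0 + b * (![(0 : F), 1] : Fin 2 → F) 1,
        (![(0 : F), 1] : Fin 2 → F) 1] : Fin 2 → F) = ![b, 0] + ![0, 1] := by
      funext i; fin_cases i <;> simp
    rw [this, smul_add] at e
    rw [eq_sub_of_add_eq e]
    funext i; fin_cases i <;> simp [α]
  have h2 : ∀ b, h • (![0, b] : Fin 2 → F) = ![0, b * α] := fun b => by
    have e := congrArg (fun g : Aut2 p F => g • (![1, 0] : Fin 2 → F)) (hcl b)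
    simp only [mul_smul] at e
    rw [loM_smul, loM_smul, h1 1] at e
    have : (![(![(1 : F), 0] : Fin 2 → F) 0, b * (![(1 : F), 0] : Fin 2 → F) 0 +
        (![(1 : F), 0] : Fin 2 → F) 1] : Fin 2 → F) = ![1, 0] + ![0, b] := by
      funext i; fin_cases i <;> simp
    rw [this, smul_add, h1 1] at e
    rw [eq_sub_of_add_eq' e]
    funext i; fin_cases i <;> simp
  have hw : w = ![w 0, 0] + ![0, w 1] := by funext i; fin_cases i <;> simp
  conv_lhs => rw [hw]
  rw [smul_add, h1, h2]
  funext i; fin_cases i <;> simp [mul_comm]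

theorem scalar_of_commute {h : Aut2 p F} (hc : ∀ A : SL(2, F), h * slU A = slU A * h) (w : Fin 2 → F) :
    h • w = (h • (![0, 1] : Fin 2 → F)) 1 • w :=
  scalar_of_commute_gens (fun b => hc (upM b)) (fun b => hc (loM b)) w

/-- Normalisers of the special linear group are semilinear. -/
theorem exists_semi_of_normalizes {g : Aut2 p F}
    (hg : g ∈ normalizer ((slU (p := p) (F := F)).range : Set (Aut2 p F))) : ∃ σ, Semi σ g := by
  classical
  refine ⟨fun c => if hc : c = 0 then 0 else (g • (c • g⁻¹ • (![0, 1] : Fin 2 → F))) 1, fun c w => ?_⟩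
  by_cases hc : c = 0
  · simp [hc]
  let sc : Aut2 p F :=
    { val := (LinearMap.lsmul F (Fin 2 → F) c).restrictScalars (ZMod p)
      inv := (LinearMap.lsmul F (Fin 2 → F) c⁻¹).restrictScalars (ZMod p)
      val_inv := LinearMap.ext fun w => smul_inv_smul₀ hc w
      inv_val := LinearMap.ext fun w => inv_smul_smul₀ hc w }
  have hsc : ∀ w : Fin 2 → F, sc • w = c • w := fun _ => rfl
  have hcomm : ∀ A : SL(2, F), (g * sc * g⁻¹) * slU A = slU A * (g * sc * g⁻¹) := by
    intro A
    obtain ⟨B, hB⟩ := (mem_normalizer_iff.1 (inv_mem hg) (slU A)).1 ⟨A, rfl⟩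
    rw [inv_inv] at hB
    have e : sc * slU B = slU B * sc := smul_smul_ext fun w => by
      rw [mul_smul, mul_smul, hsc, hsc, slU_smul, slU_smul, Matrix.mulVec_smul]
    rw [hB] at e
    calc g * sc * g⁻¹ * slU A = g * (sc * (g⁻¹ * slU A * g)) * g⁻¹ := by group
      _ = g * ((g⁻¹ * slU A * g) * sc) * g⁻¹ := by rw [e]
      _ = _ := by group
  have h := scalar_of_commute hcomm (g • w)
  simp only [mul_smul, hsc, inv_smul_smul] at h
  simpa [hc] using h

/-- Preservation of the first axis. -/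
def PresZ (g : Aut2 p F) : Prop := ∀ w : Fin 2 → F, w 1 = 0 → (g • w) 1 = 0

theorem PresZ.mul {g h : Aut2 p F} (hg : PresZ g) (hh : PresZ h) : PresZ (g * h) := fun w hw => by
  rw [mul_smul]; exact hg _ (hh _ hw)

theorem PresZ.inv {g : Aut2 p F} (hg : PresZ g) : PresZ g⁻¹ := by
  intro w hw
  let f : {w : Fin 2 → F // w 1 = 0} → {w : Fin 2 → F // w 1 = 0} := fun x => ⟨g • x.1, hg x.1 x.2⟩
  obtain ⟨x, hx⟩ := Finite.injective_iff_surjective.1
    (show Function.Injective f from fun x y h => Subtype.ext (MulAction.injective g (congrArg Subtype.val h)))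
    ⟨w, hw⟩
  rw [show w = g • x.1 from (congrArg Subtype.val hx).symm, inv_smul_smul]
  exact x.2

theorem presZ_of_commute {g : Aut2 p F} {b : F} (hb : b ≠ 0) (h : g * uU b = uU b * g) : PresZ g :=
  fun w hw => (uU_fix hb _).1 (by rw [← mul_smul, ← h, mul_smul, (uU_fix hb w).2 hw])

theorem presZ_uU (b : F) : PresZ (uU b : Aut2 p F) := fun w hw => by rw [uU_smul]; simpa using hw

end Cfsg.Lib.Local.SL2Embed
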