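import Cfsg.Agent.Lib.Local.SL2Embed.Spread
import Cfsg.Agent.Lib.Small.AltEightSubgroups
import Cfsg.Agent.Lib.Linear.PSLSmall
import Cfsg.Agent.S0205

/-!
# The field of four elements
-/

set_option autoImplicit false
set_option linter.unusedSectionVars false

namespace Cfsg.Lib.Local.SL2Embed

open Subgroup Matrix
open scoped MatrixGroups

variable {F : Type*} [Field F] [Algebra (ZMod 2) F] [Finite F]

theorem finrank_eq_two (hq : Nat.card F = 4) : Module.finrank (ZMod 2) F = 2 := by
  have h := natCard_field (p := 2) (F := F)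
  rw [hq] at h
  exact (Nat.pow_right_injective (le_refl 2) (show 2 ^ 2 = 2 ^ Module.finrank (ZMod 2) F from h)).symm

theorem card_sl (hq : Nat.card F = 4) : Nat.card ↥((slU (p := 2) (F := F)).range) = 60 := by
  letI := Fintype.ofFinite F
  rw [← Nat.card_congr (MonoidHom.ofInjective slU_injective).toEquiv, Cfsg.Lib.Linear.Two.card_SL_two,
    ← Nat.card_eq_fintype_card, hq]
  norm_num

theorem charTwo : CharP F 2 := charP_of_injective_algebraMap (algebraMap (ZMod 2) F).injective 2

/-- Elements of trace a root of `X² + X + 1` have order dividing five. -/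
theorem pow_five (A : SL(2, F)) {t : F} (ht : t * t + t + 1 = 0)
    (htr : A.1 0 0 + A.1 1 1 = t) : A ^ 5 = 1 := by
  haveI := charTwo (F := F)
  have h2 : (2 : F) = 0 := CharTwo.two_eq_zero
  have hd := A.2
  rw [Matrix.det_fin_two] at hd
  have hA2 : A.1 * A.1 = t • A.1 + 1 := by
    ext i j
    fin_cases i <;> fin_cases j <;> simp [Matrix.mul_apply, Fin.sum_univ_two]
    · linear_combination (A.1 0 0) * htr - hd + (-1 : F) * h2
    · linear_combination (A.1 0 1) * htr
    · linear_combination (A.1 1 0) * htr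
    · linear_combination (A.1 1 1) * htr - hd + (-1 : F) * h2
  have htt : t * t + 1 = t := by linear_combination ht - t * h2
  have h3 : A.1 * A.1 * A.1 = t • A.1 + t • (1 : Matrix (Fin 2) (Fin 2) F) := by
    rw [hA2, add_mul, one_mul, smul_mul_assoc, hA2, smul_add, smul_smul]
    calc (t * t) • A.1 + t • 1 + A.1 = (t * t + 1) • A.1 + t • 1 := by
          rw [add_smul, one_smul]; abel
      _ = _ := by rw [htt]
  apply Subtype.ext
  rw [show A ^ 5 = A * A * A * (A * A) by rw [pow_succ, pow_succ, pow_succ, pow_succ, pow_one, mul_assoc (A * A * A)]]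
  show A.1 * A.1 * A.1 * (A.1 * A.1) = 1
  rw [h3, hA2, add_mul, smul_mul_assoc, smul_mul_assoc, one_mul, mul_add, mul_one, mul_smul_comm,
    hA2, smul_add, smul_add, smul_add, smul_smul, smul_smul, smul_smul]
  ext i j
  simp only [Matrix.add_apply, Matrix.smul_apply, smul_eq_mul]
  linear_combination (A.1 i j * t + (1 : Matrix (Fin 2) (Fin 2) F) i j) * ht +
    (-(1 : Matrix (Fin 2) (Fin 2) F) i j) * h2

theorem exists_t (hq : Nat.card F = 4) : ∃ t : F, t * t + t + 1 = 0 := by
  classical
  letI := Fintype.ofFinite F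
  by_contra! h
  have key : ∀ z : F, z = 0 ∨ z = 1 := fun z => by
    by_contra hz
    push Not at hz
    have h4 : z ^ Fintype.card F = z := FiniteField.pow_card z
    rw [← Nat.card_eq_fintype_card, hq] at h4
    have e : z * (z - 1) * (z * z + z + 1) = 0 := by linear_combination h4
    exact h z ((mul_eq_zero.1 e).resolve_left (mul_ne_zero hz.1 (sub_ne_zero.2 hz.2)))
  have : (Finset.univ : Finset F) ⊆ {0, 1} := fun z _ => by simpa using key z
  have hc := (Finset.card_le_card this).trans Finset.card_le_two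
  rw [Finset.card_univ, ← Nat.card_eq_fintype_card, hq] at hc
  omega

theorem small_fixed {c m : ℕ} (hc : m = 3 ∨ m = 5 ∨ m = 7 ∨ m = 9) (hd : c ∣ m)
    (hmod : c ≡ m [MOD 5]) : c = m := by
  have hle := Nat.le_of_dvd (by omega) hd
  unfold Nat.ModEq at hmod
  rcases hc with rfl | rfl | rfl | rfl <;> interval_cases c <;> norm_num at *

/-- An automorphism of order five centralises a small group of odd prime power order. -/
theorem commute_of_pow_five {a : Aut2 2 F} (ha : a ^ 5 = 1) (M : Subgroup (Aut2 2 F))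
    (haM : a ∈ normalizer (M : Set (Aut2 2 F)))
    (hc : Nat.card M = 3 ∨ Nat.card M = 5 ∨ Nat.card M = 7 ∨ Nat.card M = 9) :
    ∀ m ∈ M, m * a = a * m := by
  classical
  letI : Fintype M := Fintype.ofFinite M
  haveI : Fact (Nat.Prime 5) := ⟨by norm_num⟩
  let φ := Subgroup.normalizerMonoidHom M
  let σ : Equiv.Perm M := (φ ⟨a, haM⟩).toEquiv
  have hσ : σ ^ 5 ^ 1 = 1 := by
    have e : φ ⟨a, haM⟩ ^ 5 = 1 := by
      rw [← map_pow, show (⟨a, haM⟩ : ↥(normalizer (M : Set (Aut2 2 F)))) ^ 5 = 1 from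
        Subtype.ext ha, map_one]
    refine Equiv.ext fun x => ?_
    have := DFunLike.congr_fun e x
    rw [pow_one, Equiv.Perm.coe_pow]
    rw [MulAut.one_apply] at this
    exact this
  have hfix : ∀ m : M, σ m = m ↔ (m : Aut2 2 F) * a = a * m := fun m => by
    rw [Subtype.ext_iff]
    show a * (m : Aut2 2 F) * a⁻¹ = m ↔ _
    rw [mul_inv_eq_iff_eq_mul, eq_comm]
  let C : Subgroup M := (centralizer ({a} : Set (Aut2 2 F))).subgroupOf M
  have hC : ∀ m : M, m ∈ C ↔ σ m = m := fun m => by
    rw [hfix, mem_subgroupOf, mem_centralizer_singleton_iff]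
  have hcard : Nat.card C = σ.supportᶜ.card := by
    rw [← SetLike.coe_sort_coe, Nat.card_coe_set_eq, ← Set.ncard_coe_finset]
    congr 1
    ext m
    simp [hC]
  have hmod := Equiv.Perm.card_compl_support_modEq hσ
  rw [← hcard, ← Nat.card_eq_fintype_card] at hmod
  have hdvd : Nat.card C ∣ Nat.card M := card_subgroup_dvd_card C
  have htop : C = ⊤ := by
    refine eq_top_of_card_eq C ?_
    exact small_fixed hc hdvd hmod
  intro m hm
  exact (hfix ⟨m, hm⟩).1 ((hC _).1 (htop ▸ mem_top _))

variable {G : Subgroup (Aut2 2 F)}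

/-- A small normal subgroup of odd order makes the special linear group normal. -/
theorem normalizes_of_small (hG : Embedded G) (hq : Nat.card F = 4) (M : Subgroup (Aut2 2 F))
    (hnM : G ≤ normalizer (M : Set (Aut2 2 F)))
    (hc : Nat.card M = 3 ∨ Nat.card M = 5 ∨ Nat.card M = 7 ∨ Nat.card M = 9) :
    G ≤ normalizer ((slU (p := 2) (F := F)).range : Set (Aut2 2 F)) := by
  classical
  letI := Fintype.ofFinite F
  haveI := charTwo (F := F)
  have h2 : (2 : F) = 0 := CharTwo.two_eq_zero
  obtain ⟨t, ht⟩ := exists_t hq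
  have ht' : (t + 1) * (t + 1) + (t + 1) + 1 = 0 := by linear_combination ht + (t + 1) * h2
  have h5 : ∀ (A : SL(2, F)) (s : F), s * s + s + 1 = 0 → A.1 0 0 + A.1 1 1 = s →
      ∀ m ∈ M, m * slU A = slU A * m := fun A s hs htr =>
    commute_of_pow_five (by rw [← map_pow, pow_five A hs htr, map_one]) M
      (hnM (hG.le ⟨A, rfl⟩)) hc
  have hgen : ∀ (A B : SL(2, F)) (m : Aut2 2 F), m * slU (A * B) = slU (A * B) * m →
      m * slU B = slU B * m → m * slU A = slU A * m := fun A B m h1 h2 => by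
    have h2' : m * (slU B)⁻¹ = (slU B)⁻¹ * m := (Commute.inv_right h2)
    calc m * slU A = m * slU (A * B) * (slU B)⁻¹ := by rw [map_mul]; group
      _ = slU (A * B) * (m * (slU B)⁻¹) := by rw [h1, mul_assoc]
      _ = _ := by rw [h2', map_mul]; group
  have hu : ∀ m ∈ M, ∀ b, m * slU (upM b) = slU (upM b) * m := fun m hm b => by
    by_cases hb : b = 0
    · rw [show upM b = 1 from Subtype.ext (by rw [hb]; ext i j; fin_cases i <;> fin_cases j <;> simp [upM]),
        map_one, mul_one, one_mul]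
    let B : SL(2, F) := ⟨!![t, b; b⁻¹, 0], by
      simp [Matrix.det_fin_two_of, hb, CharTwo.neg_eq]⟩
    exact hgen (upM b) B m
      (h5 (upM b * B) (t + 1) ht' (by
        show (!![1, b; 0, 1] * !![t, b; b⁻¹, 0] : Matrix (Fin 2) (Fin 2) F) 0 0 +
          (!![1, b; 0, 1] * !![t, b; b⁻¹, 0] : Matrix (Fin 2) (Fin 2) F) 1 1 = t + 1
        simp [Matrix.mul_apply, Fin.sum_univ_two, hb]) m hm)
      (h5 B t ht (by simp [B]) m hm)
  have hl : ∀ m ∈ M, ∀ b, m * slU (loM b) = slU (loM b) * m := fun m hm b => by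
    by_cases hb : b = 0
    · rw [show loM b = 1 from Subtype.ext (by rw [hb]; ext i j; fin_cases i <;> fin_cases j <;> simp [loM]),
        map_one, mul_one, one_mul]
    let B : SL(2, F) := ⟨!![t, b⁻¹; b, 0], by
      simp [Matrix.det_fin_two_of, hb, CharTwo.neg_eq]⟩
    exact hgen (loM b) B m
      (h5 (loM b * B) (t + 1) ht' (by
        show (!![1, 0; b, 1] * !![t, b⁻¹; b, 0] : Matrix (Fin 2) (Fin 2) F) 0 0 +
          (!![1, 0; b, 1] * !![t, b⁻¹; b, 0] : Matrix (Fin 2) (Fin 2) F) 1 1 = t + 1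
        simp [Matrix.mul_apply, Fin.sum_univ_two, hb]) m hm)
      (h5 B t ht (by simp [B]) m hm)
  have hsc : ∀ m ∈ M, ∃ α : F, ∀ w : Fin 2 → F, m • w = α • w := fun m hm =>
    ⟨_, scalar_of_commute_gens (hu m hm) (hl m hm)⟩
  have hne : M ≠ ⊥ := fun h => by rw [h, card_bot] at hc; omega
  obtain ⟨m, hm, hm1⟩ := (Subgroup.ne_bot_iff_exists_ne_one.1 hne).elim fun x hx =>
    (⟨x.1, x.2, fun e => hx (Subtype.ext e)⟩ : ∃ m ∈ M, m ≠ 1)
  obtain ⟨α, hα⟩ := hsc m hm
  have he : (![1, 0] : Fin 2 → F) ≠ 0 := fun h => one_ne_zero (congrFun h 0)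
  have hα1 : α ≠ 1 := fun e => hm1 (smul_smul_ext fun w => by rw [hα, e, one_smul, one_smul])
  have hα0 : α ≠ 0 := fun e => he (MulAction.injective m (by
    show m • (![1, 0] : Fin 2 → F) = m • (0 : Fin 2 → F)
    rw [hα, e, zero_smul, smul_zero]))
  refine normalizes_of_semi fun g hg => ?_
  obtain ⟨β, hβ⟩ := hsc (g * m * g⁻¹) ((mem_normalizer_iff.1 (hnM hg) m).1 hm)
  have hgα : ∀ w : Fin 2 → F, g • α • w = β • g • w := fun w => by
    rw [← hβ, mul_smul, mul_smul, inv_smul_smul, hα]
  have hαα : ∀ w : Fin 2 → F, g • (α * α) • w = (β * β) • g • w := fun w => by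
    rw [mul_smul, mul_smul, hgα, hgα]
  have hall : ∀ c : F, ∃ d : F, ∀ w : Fin 2 → F, g • c • w = d • g • w := by
    have hs : (Finset.univ : Finset F) = {0, 1, α, α * α} := by
      refine (Finset.eq_of_subset_of_card_le (Finset.subset_univ _) ?_).symm
      rw [Finset.card_univ, ← Nat.card_eq_fintype_card, hq]
      have hsq : α * α ≠ 1 := fun e => hα1 (sub_eq_zero.1 (mul_self_eq_zero.1
        (by linear_combination e + (1 - α) * h2)))
      have hsa : α * α ≠ α := fun e => hα1 ((mul_eq_left₀ hα0).1 e)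
      rw [Finset.card_insert_of_notMem (by simp [hα0, hα0.symm]),
        Finset.card_insert_of_notMem (by simp [hα1.symm, hsq.symm]),
        Finset.card_insert_of_notMem (by simp [hsa.symm]), Finset.card_singleton]
    intro c
    have hc' := Finset.mem_univ c
    rw [hs] at hc'
    simp only [Finset.mem_insert, Finset.mem_singleton] at hc'
    rcases hc' with rfl | rfl | rfl | rfl
    · exact ⟨0, fun w => by simp⟩
    · exact ⟨1, fun w => by simp⟩
    · exact ⟨β, hgα⟩
    · exact ⟨β * β, hαα⟩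
  choose σ hσ using hall
  exact ⟨σ, hσ⟩

/-- A nontrivial solvable group has a nontrivial characteristic subgroup of prime power order. -/
theorem exists_char_prime_pow {H : Type*} [Group H] [Finite H] (hs : Group.IsSolvable H)
    (hne : Nontrivial H) :
    ∃ (q : ℕ) (Q : Subgroup H), q.Prime ∧ IsPGroup q Q ∧ Q ≠ ⊥ ∧ Q.Characteristic := by
  classical
  obtain ⟨n, hn⟩ := hs.solvable
  have hex : ∃ n, derivedSeries H n = ⊥ := ⟨n, hn⟩
  obtain ⟨k, hk⟩ : ∃ k, Nat.find hex = k + 1 := by
    refine Nat.exists_eq_succ_of_ne_zero fun h0 => ?_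
    have := Nat.find_spec hex
    rw [h0, derivedSeries_zero] at this
    exact bot_ne_top this.symm
  set A : Subgroup H := derivedSeries H k with hA
  have hAne : A ≠ ⊥ := fun h => by have := Nat.find_min' hex h; omega
  haveI hAc : IsMulCommutative A := ⟨⟨fun a b => by
    have h1 : ⁅A, A⁆ = ⊥ := by
      rw [hA, ← derivedSeries_succ, ← hk]
      exact Nat.find_spec hex
    exact Subtype.ext (mem_centralizer_iff.1 (commutator_eq_bot_iff_le_centralizer.1 h1 b.2) _ a.2)⟩⟩
  haveI : A.Characteristic := derivedSeries_characteristic H k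
  obtain ⟨q, hq, hqd⟩ := Nat.exists_prime_and_dvd (n := Nat.card A)
    (fun h => hAne ((Subgroup.card_eq_one).1 h))
  haveI := Fact.mk hq
  obtain ⟨Q⟩ : Nonempty (Sylow q A) := inferInstance
  haveI : (Q : Subgroup A).Normal := inferInstance
  haveI : (Q : Subgroup A).Characteristic := Q.characteristic_of_normal inferInstance
  refine ⟨q, (Q : Subgroup A).map A.subtype, hq, Q.isPGroup'.map _, ?_, inferInstance⟩
  exact fun h => Q.ne_bot_of_dvd_card hqd (map_eq_bot_iff_of_injective _ A.subtype_injective |>.1 h)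

/-- A normal `2`-subgroup is trivial. -/
theorem pCore_eq_bot (hG : Embedded G) : Cfsg.pCore 2 ↥G = ⊥ := by
  set M := Cfsg.pCore 2 ↥G
  haveI : M.Normal := Cfsg.pCore_normal 2 ↥G
  obtain ⟨v, hv, hv0⟩ := ((Cfsg.Lib.Core.pCore_isPGroup 2 ↥G).map G.subtype)
    |>.exists_fixed_point_of_prime_dvd_card_of_fixed_point (Fin 2 → F) dvd_natCard_vec (a := 0)
    (fun q => smul_zero (q : Aut2 2 F))
  have he : (![1, 0] : Fin 2 → F) ≠ 0 := fun h => one_ne_zero (congrFun h 0)
  refine eq_bot_iff.2 fun m hm => Subtype.ext (smul_smul_ext fun w => ?_)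
  rw [Subgroup.coe_one, one_smul]
  by_cases hw : w = 0
  · rw [hw, smul_zero]
  obtain ⟨A, hA⟩ := exists_sl_smul (p := 2) (Ne.symm hv0)
  obtain ⟨B, hB⟩ := exists_sl_smul (p := 2) hw
  let a : ↥G := ⟨slU (B * A⁻¹), hG.le ⟨_, rfl⟩⟩
  have haw : (a : Aut2 2 F) • v = w := by
    show slU (B * A⁻¹) • v = w
    rw [map_mul, map_inv, mul_smul, inv_smul_eq_iff.2 hA.symm, hB]
  have hm' : a⁻¹ * m * a ∈ M := by
    simpa [mul_assoc] using ‹M.Normal›.conj_mem m hm a⁻¹
  have h1 : ((a⁻¹ * m * a : ↥G) : Aut2 2 F) • v = v :=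
    hv ⟨_, Subgroup.mem_map_of_mem G.subtype hm'⟩
  rw [Subgroup.coe_mul, Subgroup.coe_mul, Subgroup.coe_inv, mul_smul, mul_smul, haw,
    inv_smul_eq_iff] at h1
  rw [h1, haw]

theorem aut_card_le (hq : Nat.card F = 4) : Nat.card (F ≃+* F) ≤ 2 :=
  (natCard_autos_le (p := 2)).trans (finrank_eq_two hq).le

/-- The normaliser has order dividing `360`. -/
theorem card_normalizer_dvd (hq : Nat.card F = 4) (N : Subgroup (Aut2 2 F))
    (hN : N ≤ normalizer ((slU (p := 2) (F := F)).range : Set (Aut2 2 F))) : Nat.card N ∣ 360 := by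
  classical
  letI := Fintype.ofFinite F
  choose σ hσ using fun x : N => exists_semi_of_normalizes (hN x.2)
  let ψ : N →* (F ≃+* F) := MonoidHom.mk' (fun x => (hσ x).aut) fun x y =>
    RingEquiv.ext fun c => congrFun ((hσ (x * y)).unique ((hσ x).mul (hσ y))) c
  have hker : ∀ x : ψ.ker, Semi id (x.1 : Aut2 2 F) := fun x => by
    have e : σ x.1 = id := funext fun c => RingEquiv.congr_fun (MonoidHom.mem_ker.1 x.2) c
    exact e ▸ hσ x.1
  let η : ψ.ker →* Module.End F (Fin 2 → F) :=
    { toFun := fun x =>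
        { toFun := fun w => (x.1 : Aut2 2 F) • w
          map_add' := fun v w => smul_add _ v w
          map_smul' := fun c w => hker x c w }
      map_one' := LinearMap.ext fun w => one_smul (Aut2 2 F) w
      map_mul' := fun x y => LinearMap.ext fun w => mul_smul (x.1 : Aut2 2 F) (y.1 : Aut2 2 F) w }
  let e0 : Module.End F (Fin 2 → F) ≃* Matrix (Fin 2) (Fin 2) F :=
    (LinearMap.toMatrixAlgEquiv (Pi.basisFun F (Fin 2))).toMulEquiv
  let η' : ψ.ker →* GL (Fin 2) F := (Units.mapEquiv e0).toMonoidHom.comp η.toHomUnits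
  have hη : Function.Injective η' := fun x y h => by
    refine Subtype.ext (Subtype.ext (smul_smul_ext fun w => ?_))
    exact LinearMap.congr_fun (congrArg Units.val ((Units.mapEquiv e0).injective h)) w
  have h1 : Nat.card ψ.ker ∣ 180 := by
    have := card_dvd_of_injective η' hη
    rwa [Matrix.card_GL_field, ← Nat.card_eq_fintype_card, hq, Fin.prod_univ_two] at this
  have h2 : Nat.card ψ.range ∣ 2 := by
    have hle : Nat.card ψ.range ≤ 2 :=
      (Subgroup.card_le_card_group _).trans (aut_card_le hq)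
    have := Nat.card_pos (α := ψ.range)
    interval_cases h : Nat.card ψ.range <;> norm_num
  rw [card_eq_card_quotient_mul_card_subgroup ψ.ker,
    Nat.card_congr (QuotientGroup.quotientKerEquivRange ψ).toEquiv]
  exact mul_dvd_mul h2 h1

theorem exists_hom_A8 (hq : Nat.card F = 4) :
    ∃ f : Aut2 2 F →* Cfsg.Lib.Small.AltEight.A8, Function.Injective f := by
  have h4 : Module.finrank (ZMod 2) (Fin 2 → F) = 4 := by
    rw [Module.finrank_pi_fintype]
    simp [finrank_eq_two hq]
  let b := Module.finBasisOfFinrankEq (ZMod 2) (Fin 2 → F) h4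
  obtain ⟨e⟩ := Cfsg.Lib.Small.AltEight.gl_equiv_A8
  let e' := (Units.mapEquiv (LinearMap.toMatrixAlgEquiv b).toMulEquiv).trans e
  exact ⟨e'.toMonoidHom, e'.injective⟩

theorem prime_pow_dvd {q j : ℕ} (hq : q.Prime) (h1 : 1 < q ^ j) (hd : q ^ j ∣ 315) :
    q ^ j = 3 ∨ q ^ j = 5 ∨ q ^ j = 7 ∨ q ^ j = 9 := by
  have hj0 : j ≠ 0 := fun h => by rw [h, pow_zero] at h1; omega
  have hqd : q ∣ 315 := (dvd_pow_self q hj0).trans hd
  have hlist : ∀ r ∈ Nat.divisors 315, r.Prime → r = 3 ∨ r = 5 ∨ r = 7 := by decide +kernel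
  have hj3 : j ≤ 2 := by
    by_contra h
    have h3 := (pow_dvd_pow q (show 3 ≤ j by omega)).trans hd
    rcases hlist q (Nat.mem_divisors.2 ⟨hqd, by norm_num⟩) hq with rfl | rfl | rfl <;> norm_num at h3
  rcases hlist q (Nat.mem_divisors.2 ⟨hqd, by norm_num⟩) hq with rfl | rfl | rfl <;>
    interval_cases j <;> norm_num at *

theorem six_index {a k : ℕ} (h60 : 60 ∣ a) (h : a * k = 360) (h2 : ¬ 2 ∣ k) (h1 : k ≠ 1) : k = 3 := by
  obtain ⟨c, rfl⟩ := h60
  have hk : k ∣ 6 := ⟨c, by nlinarith⟩
  have := Nat.le_of_dvd (by norm_num) hk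
  interval_cases k <;> norm_num at *

theorem no_sixteen {a k n : ℕ} (h16 : 16 ∣ n) (h : a * k = n) (h2 : ¬ 2 ∣ k) (h360 : a ∣ 360) :
    False := by
  subst h
  have h4 : Nat.Coprime (2 ^ 4) k := Nat.Coprime.pow_left 4 ((Nat.prime_two.coprime_iff_not_dvd).2 h2)
  have := (h4.dvd_of_dvd_mul_right h16).trans h360
  norm_num at this

/-- The odd core is trivial unless `SL₂(4)` is normal. -/
theorem pPrimeCore_eq_bot (hG : Embedded G) (hq : Nat.card F = 4)
    (hn : ¬ G ≤ normalizer ((slU (p := 2) (F := F)).range : Set (Aut2 2 F))) :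
    Cfsg.pPrimeCore 2 ↥G = ⊥ := by
  obtain ⟨f0, hf0⟩ := exists_hom_A8 hq
  let f : ↥G →* Cfsg.Lib.Small.AltEight.A8 := f0.comp G.subtype
  have hf : Function.Injective f := hf0.comp G.subtype_injective
  by_contra hK
  have hodd' : Odd (Nat.card (Cfsg.pPrimeCore 2 ↥G)) := by
    rw [← Nat.not_even_iff_odd, even_iff_two_dvd]
    exact Cfsg.Lib.Core.pPrimeCore_not_dvd 2 ↥G
  haveI : Nontrivial (Cfsg.pPrimeCore 2 ↥G) := (Subgroup.nontrivial_iff_ne_bot _).2 hK
  obtain ⟨q, Q, hqp, hQ, hQne, hQc⟩ :=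
    exists_char_prime_pow (Cfsg.Agent.S0205.result hodd') inferInstance
  haveI := hQc
  let M : Subgroup ↥G := Q.map (Cfsg.pPrimeCore 2 ↥G).subtype
  haveI : M.Normal := inferInstance
  have hnM : G ≤ normalizer ((M.map G.subtype : Subgroup (Aut2 2 F)) : Set (Aut2 2 F)) := by
    intro g hg
    refine mem_normalizer_iff.2 fun x => ⟨?_, ?_⟩
    · rintro ⟨y, hy, rfl⟩
      exact ⟨⟨g, hg⟩ * y * ⟨g, hg⟩⁻¹, ‹M.Normal›.conj_mem y hy _, rfl⟩
    · rintro ⟨y, hy, e⟩
      refine ⟨⟨g, hg⟩⁻¹ * y * ⟨g, hg⟩, by simpa [mul_assoc] using ‹M.Normal›.conj_mem y hy (⟨g, hg⟩⁻¹), ?_⟩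
      simp only [map_mul, map_inv, Subgroup.coe_subtype] at e ⊢
      rw [e]; group
  refine hn (normalizes_of_small hG hq _ hnM ?_)
  have hMQ : Nat.card (M.map G.subtype : Subgroup (Aut2 2 F)) = Nat.card Q := by
    rw [card_map_of_injective G.subtype_injective,
      card_map_of_injective (Cfsg.pPrimeCore 2 ↥G).subtype_injective]
  rw [hMQ]
  haveI := Fact.mk hqp
  obtain ⟨j, hj⟩ := hQ.exists_card_eq
  have hd : Nat.card Q ∣ 315 := by
    have h1 : Nat.card Q ∣ 20160 := (card_subgroup_dvd_card Q).trans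
      ((card_subgroup_dvd_card _).trans (Cfsg.Lib.Small.AltEight.card_dvd hf))
    have h2 : (Nat.card Q).Coprime (2 ^ 6) := by
      refine Nat.Coprime.pow_right _ ?_
      exact (Nat.Coprime.coprime_dvd_left (card_subgroup_dvd_card Q)
        ((Nat.coprime_two_right).2 hodd'))
    exact h2.dvd_of_dvd_mul_left (show Nat.card Q ∣ 2 ^ 6 * 315 from h1)
  have h1 : 1 < Nat.card Q := (one_lt_card_iff_ne_bot Q).2 hQne
  rw [hj] at h1 hd ⊢
  exact prime_pow_dvd hqp h1 hd

/-- Over the field of four elements the group normalises `SL₂(4)` or is `A₇`. -/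
theorem Embedded.four (hG : Embedded G) (hq : Nat.card F = 4) :
    G ≤ normalizer ((slU (p := 2) (F := F)).range : Set (Aut2 2 F)) ∨
      Nonempty (↥G ≃* ↥(alternatingGroup (Fin 7))) := by
  classical
  refine or_iff_not_imp_left.2 fun hn => ?_
  set L := (slU (p := 2) (F := F)).range with hLdef
  set N := G ⊓ normalizer (L : Set (Aut2 2 F)) with hNdef
  obtain ⟨f0, hf0⟩ := exists_hom_A8 hq
  let f : ↥G →* Cfsg.Lib.Small.AltEight.A8 := f0.comp G.subtype
  have hf : Function.Injective f := hf0.comp G.subtype_injective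
  have hLN : L ≤ N := le_inf hG.le le_normalizer
  have hN60 : 60 ∣ Nat.card N := card_sl hq ▸ card_dvd_of_le hLN
  have hN360 : Nat.card N ∣ 360 := card_normalizer_dvd hq N inf_le_right
  have hNG : Nat.card N * N.relIndex G = Nat.card G := by
    rw [relIndex, ← Nat.card_congr (subgroupOfEquivOfLe (inf_le_left : N ≤ G)).toEquiv]
    exact card_mul_index _
  have hodd : ¬ 2 ∣ N.relIndex G := hG.sylow
  have hidx : N.relIndex G ≠ 1 := fun h => hn ((relIndex_eq_one.1 h).trans inf_le_right)
  have hne : Nontrivial ↥G := by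
    rw [← Finite.one_lt_card_iff_nontrivial]
    have h60 := card_dvd_of_le hG.le
    rw [card_sl hq] at h60
    have := Nat.le_of_dvd Nat.card_pos h60
    omega
  have hO : Cfsg.pPrimeCore 2 ↥G = ⊥ := pPrimeCore_eq_bot hG hq hn
  have hcard : ∀ {H : Type} [Group H], Nonempty (↥G ≃* H) → Nat.card ↥G = Nat.card H :=
    fun ⟨e⟩ => Nat.card_congr e.toEquiv
  have bad : ∀ n : ℕ, Nat.card ↥G = n → Nat.card N * N.relIndex G = n := fun n h => hNG.trans h
  rcases Cfsg.Lib.Small.AltEight.classify hne hO (pCore_eq_bot hG) hf with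
    ⟨n, hn5, hn8, he⟩ | he | he | he
  · have hc := hcard he
    haveI : Nontrivial (Fin n) := Fin.nontrivial_iff_two_le.2 (by omega)
    rw [nat_card_alternatingGroup, Nat.card_fin] at hc
    interval_cases n
    · -- degree five
      refine absurd ?_ hn
      have : L = G := eq_of_le_of_card_ge hG.le (by rw [hc, card_sl hq]; norm_num [Nat.factorial])
      exact this ▸ le_normalizer
    · -- degree six
      exfalso
      norm_num [Nat.factorial] at hc
      have hb := bad _ hc
      have hk : N.relIndex G = 3 := six_index hN60 hb hodd hidx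
      obtain ⟨e⟩ := he
      haveI : IsSimpleGroup (alternatingGroup (Fin 6)) := alternatingGroup.isSimpleGroup (by simp)
      haveI : IsSimpleGroup ↥G := IsSimpleGroup.isSimpleGroup_of_surjective e.symm.toMonoidHom e.symm.surjective
      have hnc : ¬ IsMulCommutative ↥G := fun h => by
        let _ : CommGroup ↥G := { (inferInstance : Group ↥G) with mul_comm := fun a b => h.is_comm.comm a b }
        have := IsSimpleGroup.prime_card (α := ↥G)
        rw [hc] at this
        norm_num at this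
      obtain ⟨φ, hφ⟩ := Cfsg.Agent.S0991.result hnc (N.subgroupOf G) (fun h => hidx (by
        rw [relIndex, h, index_top]))
      have h3 := card_dvd_of_injective φ hφ
      rw [hc, show (N.subgroupOf G).index = 3 from hk, nat_card_alternatingGroup, Nat.card_fin] at h3
      norm_num [Nat.factorial] at h3
    · exact he
    · -- degree eight
      exfalso
      norm_num [Nat.factorial] at hc
      have hb := bad _ hc
      exact no_sixteen (by norm_num) hb hodd hN360
  · -- symmetric degree five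
    refine absurd ?_ hn
    have hc := hcard he
    rw [Nat.card_perm, Nat.card_fin] at hc
    have hi : (L.subgroupOf G).index = 2 := by
      have := card_mul_index (L.subgroupOf G)
      rw [Nat.card_congr (subgroupOfEquivOfLe hG.le).toEquiv, card_sl hq, hc] at this
      norm_num [Nat.factorial] at this
      omega
    haveI := normal_of_index_eq_two hi
    exact normal_subgroupOf_iff_le_normalizer hG.le |>.1 inferInstance
  · -- symmetric degree six
    exfalso
    have hc := hcard he
    rw [Nat.card_perm, Nat.card_fin] at hc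
    norm_num [Nat.factorial] at hc
    have hb := bad _ hc
    exact no_sixteen (by norm_num) hb hodd hN360
  · -- the group of order 168
    exfalso
    have hc := hcard he
    rw [Matrix.card_GL_field, ZMod.card, Fin.prod_univ_three] at hc
    norm_num at hc
    have hb := bad _ hc
    have h : 60 ∣ 168 := hb ▸ hN60.mul_right _
    norm_num at h

end Cfsg.Lib.Local.SL2Embed
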