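import Cfsg.Agent.S0801

/-!
# Groups generated by two quadratic units

Two units `1 + a`, `1 + b` with `a² = b² = 0` in a finite algebra over `ZMod p`, `p` odd, generate
a `p`-group or a group containing an involution that commutes with both.
-/

set_option autoImplicit false
set_option linter.unusedSectionVars false

namespace Cfsg.Lib.Local.SL2Embed

open Subgroup

variable {p : ℕ} [Fact p.Prime] {E : Type*} [Ring E] [Algebra (ZMod p) E] (a b : E)

/-- The central element of two nilpotent elements of square zero. -/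
def cc : E := a * b + b * a

/-- The algebra of the central element. -/
abbrev RR : Subalgebra (ZMod p) E := Algebra.adjoin (ZMod p) {cc a b}

variable {a b}

theorem cc_comm_left (ha : a * a = 0) : Commute (cc a b) a := by
  show (a * b + b * a) * a = a * (a * b + b * a)
  rw [add_mul, mul_add, mul_assoc b a a, ha, mul_zero, add_zero, ← mul_assoc a a b, ha, zero_mul,
    zero_add, mul_assoc]

theorem cc_comm_right (hb : b * b = 0) : Commute (cc a b) b := by
  show (a * b + b * a) * b = b * (a * b + b * a)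
  rw [add_mul, mul_add, mul_assoc a b b, hb, mul_zero, zero_add, ← mul_assoc b b a, hb, zero_mul,
    add_zero, mul_assoc]

theorem comm_of_mem {x : E} (hx : Commute (cc a b) x) {r : E} (hr : r ∈ RR (p := p) a b) : Commute r x := by
  induction hr using Algebra.adjoin_induction with
  | mem y hy => rw [Set.mem_singleton_iff] at hy; rw [hy]; exact hx
  | algebraMap c => exact Algebra.commutes c x
  | add y z _ _ hy hz => exact hy.add_left hz
  | mul y z _ _ hy hz => exact hy.mul_left hz

/-- The form of the elements generated, with their inverses. -/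
def Form (p : ℕ) [Fact p.Prime] [Algebra (ZMod p) E] (a b : E) (γ : Eˣ) : Prop :=
  ∃ r ∈ RR (p := p) a b, ∃ s ∈ RR (p := p) a b, ∃ t ∈ RR (p := p) a b, ∃ w ∈ RR (p := p) a b,
    (∃ k ∈ RR (p := p) a b, r = 1 + k * cc a b) ∧ (γ : E) = r + s * a + t * b + w * (a * b) ∧
      ((γ⁻¹ : Eˣ) : E) = r + w * cc a b - s * a - t * b - w * (a * b)

theorem Form.one : Form p a b 1 :=
  ⟨1, one_mem _, 0, zero_mem _, 0, zero_mem _, 0, zero_mem _, ⟨0, zero_mem _, by simp⟩, by simp, by simp⟩

theorem Form.inv {γ : Eˣ} (h : Form p a b γ) : Form p a b γ⁻¹ := by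
  obtain ⟨r, hr, s, hs, t, ht, w, hw, ⟨k, hk, hk'⟩, h1, h2⟩ := h
  have hc : cc a b ∈ RR (p := p) a b := Algebra.self_mem_adjoin_singleton _ _
  refine ⟨r + w * cc a b, add_mem hr (mul_mem hw hc), -s, neg_mem hs, -t, neg_mem ht, -w, neg_mem hw,
    ⟨k + w, add_mem hk hw, by rw [hk', add_mul, add_assoc]⟩, ?_, ?_⟩
  · rw [h2]; simp only [neg_mul]; abel
  · rw [inv_inv, h1]; simp only [neg_mul]; abel

theorem Form.mul_left_gen (ha : a * a = 0) (hb : b * b = 0) {γ u : Eˣ} (hu : (u : E) = 1 + a)
    (hu' : ((u⁻¹ : Eˣ) : E) = 1 - a) (h : Form p a b γ) : Form p a b (γ * u) := by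
  obtain ⟨r, hr, s, hs, t, ht, w, hw, ⟨k, hk, hk'⟩, h1, h2⟩ := h
  have hc : cc a b ∈ RR (p := p) a b := Algebra.self_mem_adjoin_singleton _ _
  have hca := cc_comm_left (b := b) ha
  have hcb := cc_comm_right (a := a) hb
  refine ⟨r + t * cc a b, add_mem hr (mul_mem ht hc), r + s + w * cc a b,
    add_mem (add_mem hr hs) (mul_mem hw hc), t, ht, w - t, sub_mem hw ht,
    ⟨k + t, add_mem hk ht, by rw [hk', add_mul, add_assoc]⟩, ?_, ?_⟩
  · have e1 : t * b * a = t * cc a b - t * (a * b) := by rw [cc, mul_add, mul_assoc]; abel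
    have e2 : a * b * a = cc a b * a := by rw [cc, add_mul, mul_assoc b a a, ha, mul_zero, add_zero]
    rw [Units.val_mul, h1, hu, mul_add, mul_one, add_mul, add_mul, add_mul, e1, mul_assoc s a a, ha,
      mul_zero, mul_assoc w (a * b) a, e2, ← mul_assoc w (cc a b) a, sub_mul, add_mul, add_mul]
    abel
  · have hx : ∀ {x : E}, x ∈ RR (p := p) a b → a * x = x * a := fun hx =>
      ((comm_of_mem hca hx).eq).symm
    have e2 : a * (a * b) = 0 := by rw [← mul_assoc, ha, zero_mul]
    rw [mul_inv_rev, Units.val_mul, h2, hu', sub_mul 1 a, one_mul]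
    simp only [mul_sub, mul_add, add_mul, sub_mul]
    rw [hx hr, ← mul_assoc a w (cc a b), hx hw, mul_assoc w a (cc a b), ← hca.eq,
      ← mul_assoc w (cc a b) a, ← mul_assoc a s a, hx hs, mul_assoc s a a, ha, mul_zero,
      ← mul_assoc a t b, hx ht, mul_assoc t a b, ← mul_assoc a w (a * b), hx hw,
      mul_assoc w a (a * b), e2, mul_zero]
    abel

theorem Form.mul_right_gen (ha : a * a = 0) (hb : b * b = 0) {γ u : Eˣ} (hu : (u : E) = 1 + b)
    (hu' : ((u⁻¹ : Eˣ) : E) = 1 - b) (h : Form p a b γ) : Form p a b (γ * u) := by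
  obtain ⟨r, hr, s, hs, t, ht, w, hw, hk, h1, h2⟩ := h
  have hcb := cc_comm_right (a := a) hb
  refine ⟨r, hr, s, hs, t + r, add_mem ht hr, w + s, add_mem hw hs, hk, ?_, ?_⟩
  · rw [Units.val_mul, h1, hu, mul_add, mul_one, add_mul, add_mul, add_mul, mul_assoc t b b, hb,
      mul_zero, mul_assoc w (a * b) b, mul_assoc a b b, hb, mul_zero, mul_zero, mul_assoc s a b,
      add_mul, add_mul]
    abel
  · have hx : ∀ {x : E}, x ∈ RR (p := p) a b → b * x = x * b := fun hx =>
      ((comm_of_mem hcb hx).eq).symm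
    have e1 : b * a = cc a b - a * b := by rw [cc, add_sub_cancel_left]
    have e2 : b * (a * b) = cc a b * b := by
      rw [cc, add_mul, mul_assoc a b b, hb, mul_zero, zero_add, mul_assoc]
    rw [mul_inv_rev, Units.val_mul, h2, hu', sub_mul 1 b, one_mul]
    simp only [mul_sub, mul_add, add_mul, sub_mul]
    rw [hx hr, ← mul_assoc b w (cc a b), hx hw, mul_assoc w b (cc a b), ← hcb.eq,
      ← mul_assoc w (cc a b) b, ← mul_assoc b s a, hx hs, mul_assoc s b a, e1, mul_sub,
      ← mul_assoc b t b, hx ht, mul_assoc t b b, hb, mul_zero, ← mul_assoc b w (a * b), hx hw,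
      mul_assoc w b (a * b), e2, ← mul_assoc w (cc a b) b]
    abel

theorem form_of_mem (ha : a * a = 0) (hb : b * b = 0) {u v : Eˣ} (hu : (u : E) = 1 + a)
    (hv : (v : E) = 1 + b) {γ : Eˣ} (h : γ ∈ closure ({u, v} : Set Eˣ)) [Finite Eˣ] : Form p a b γ := by
  have hu' : ((u⁻¹ : Eˣ) : E) = 1 - a :=
    Units.inv_eq_of_mul_eq_one_right (by
      rw [hu, add_mul, one_mul, mul_sub, mul_one, ha]; abel)
  have hv' : ((v⁻¹ : Eˣ) : E) = 1 - b :=
    Units.inv_eq_of_mul_eq_one_right (by
      rw [hv, add_mul, one_mul, mul_sub, mul_one, hb]; abel)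
  rw [← Subgroup.mem_toSubmonoid, closure_toSubmonoid_of_finite] at h
  induction h using Submonoid.closure_induction_right with
  | one => exact Form.one
  | mul_right x _ y hy hx =>
    rcases hy with rfl | rfl
    · exact hx.mul_left_gen ha hb hu hu'
    · exact hx.mul_right_gen ha hb hv hv'

theorem trace_central (ha : a * a = 0) (hb : b * b = 0) {γ : Eˣ} (h : Form p a b γ) :
    ∃ z ∈ RR (p := p) a b, (γ : E) + ((γ⁻¹ : Eˣ) : E) = z ∧ ∃ k ∈ RR (p := p) a b, z = 2 + k * cc a b := by
  obtain ⟨r, hr, s, -, t, -, w, hw, ⟨k, hk, hk'⟩, h1, h2⟩ := h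
  refine ⟨r + r + w * cc a b, add_mem (add_mem hr hr) (mul_mem hw (Algebra.self_mem_adjoin_singleton _ _)),
    by rw [h1, h2]; abel, k + k + w, add_mem (add_mem hk hk) hw, ?_⟩
  rw [hk', add_mul, add_mul, ← one_add_one_eq_two]
  abel

variable [Finite E]

/-- Without a nilpotent central element the group has even order. -/
theorem two_dvd_card (hp : p ≠ 2) (ha : a * a = 0) (hb : b * b = 0) (hc : ¬ IsNilpotent (cc a b))
    {u v : Eˣ} (hu : (u : E) = 1 + a) (hv : (v : E) = 1 + b) :
    2 ∣ Nat.card ↥(closure ({u, v} : Set Eˣ)) := by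
  classical
  let R := RR (p := p) a b
  letI : CommRing R := Algebra.adjoinCommRingOfComm (R := ZMod p) (A := E) (s := {cc a b})
    (by rintro x rfl y rfl; rfl)
  have hca := cc_comm_left (b := b) ha
  let c0 : R := ⟨cc a b, Algebra.self_mem_adjoin_singleton _ _⟩
  let Ann : Ideal R :=
    { carrier := {r | (r : E) * (cc a b * a) = 0}
      zero_mem' := by simp
      add_mem' := fun {x y} hx hy => by
        simp only [Set.mem_setOf_eq] at hx hy ⊢
        rw [AddMemClass.coe_add, add_mul, hx, hy, add_zero]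
      smul_mem' := fun x y hy => by
        simp only [Set.mem_setOf_eq, smul_eq_mul] at hy ⊢
        rw [MulMemClass.coe_mul, mul_assoc, hy, mul_zero] }
  have hrad : c0 ∉ Ann.radical := by
    rintro ⟨n, hn⟩
    have h1 : cc a b ^ n * (cc a b * a) = 0 := by simpa [Ann, c0] using hn
    refine hc ⟨n + 2, ?_⟩
    rw [← mul_assoc, ← pow_succ] at h1
    calc cc a b ^ (n + 2) = cc a b ^ (n + 1) * (a * b + b * a) := by rw [pow_succ]; rfl
      _ = (cc a b ^ (n + 1) * a) * b + cc a b ^ (n + 1) * (b * a) := by rw [mul_add, mul_assoc]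
      _ = b * (cc a b ^ (n + 1) * a) := by
        rw [h1, zero_mul, zero_add, ← mul_assoc, ((cc_comm_right (a := a) hb).pow_left (n + 1)).eq,
          mul_assoc, h1]
      _ = 0 := by rw [h1, mul_zero]
  rw [Ideal.radical_eq_sInf, Submodule.mem_sInf] at hrad
  push Not at hrad
  obtain ⟨P, ⟨hAP, hP⟩, hcP⟩ := hrad
  haveI := hP
  let K := R ⧸ P
  haveI : Finite R := Finite.of_injective (fun r : R => (r : E)) Subtype.val_injective
  haveI : Finite K := Finite.of_surjective _ Ideal.Quotient.mk_surjective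
  letI : Field K := (Finite.isDomain_to_isField K).toField
  letI : Fintype K := Fintype.ofFinite K
  let χ : R →+* K := Ideal.Quotient.mk P
  let lam : K := χ c0
  have hlam : lam ≠ 0 := fun h => hcP (Ideal.Quotient.eq_zero_iff_mem.1 h)
  have hgen : Subfield.closure ({lam} : Set K) = ⊤ := by
    refine eq_top_iff.2 fun x hx => ?_
    clear hx
    obtain ⟨⟨r, hr⟩, rfl⟩ := Ideal.Quotient.mk_surjective x
    induction hr using Algebra.adjoin_induction with
    | mem y hy =>
      rw [Set.mem_singleton_iff] at hy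
      subst hy
      exact Subfield.subset_closure (Set.mem_singleton lam)
    | algebraMap c =>
      rw [show (⟨algebraMap (ZMod p) E c, Subalgebra.algebraMap_mem _ c⟩ : R) = ((c.val : ℕ) : R) from
        Subtype.ext (((congrArg (algebraMap (ZMod p) E) (ZMod.natCast_zmod_val c)).symm.trans
          (map_natCast _ _)).trans (map_natCast R.val c.val).symm), map_natCast]
      exact natCast_mem _ _
    | add y z hy hz ihy ihz => exact add_mem ihy ihz
    | mul y z hy hz ihy ihz => exact mul_mem ihy ihz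
  have h2 : (2 : K) ≠ 0 := by
    intro h
    have hpK : ((p : ℕ) : K) = 0 := by
      rw [← map_natCast χ, show ((p : ℕ) : R) = 0 from Subtype.ext
        ((map_natCast R.val p).trans ((map_natCast (algebraMap (ZMod p) E) p).symm.trans
          (by rw [ZMod.natCast_self, map_zero]; rfl))), map_zero]
    obtain ⟨i, hi⟩ := (Fact.out : p.Prime).odd_of_ne_two hp
    have h1 := (congrArg (Nat.cast : ℕ → K) hi).symm.trans hpK
    rw [Nat.cast_add, Nat.cast_mul, Nat.cast_ofNat, h, zero_mul, zero_add, Nat.cast_one] at h1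
    exact one_ne_zero h1
  -- the matrix of the action on the left ideal of `a`
  have huniq : ∀ r s : R, (r : E) * a + (s : E) * (b * a) = 0 → χ r = 0 ∧ χ s = 0 := by
    intro r s h
    have e1 : a * (b * a) = cc a b * a := by
      rw [cc, add_mul, mul_assoc b a a, ha, mul_zero, add_zero, mul_assoc]
    have hs : (s : E) * (cc a b * a) = 0 := by
      have h' := congrArg (a * ·) h
      simp only [mul_zero, mul_add, ← mul_assoc a (r : E), ← mul_assoc a (s : E),
        ← (comm_of_mem hca r.2).eq, ← (comm_of_mem hca s.2).eq] at h'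
      rwa [mul_assoc (r : E), ha, mul_zero, zero_add, mul_assoc (s : E), e1] at h'
    have hr : (r : E) * (cc a b * a) = 0 := by
      have hb' : (r : E) * (b * a) = 0 := by
        have h' := congrArg (b * ·) h
        simp only [mul_zero, mul_add, ← mul_assoc b (r : E), ← mul_assoc b (s : E),
          ← (comm_of_mem (cc_comm_right (a := a) hb) r.2).eq,
          ← (comm_of_mem (cc_comm_right (a := a) hb) s.2).eq] at h'
        rwa [mul_assoc (s : E) b, ← mul_assoc b b a, hb, zero_mul, mul_zero, add_zero, mul_assoc] at h'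
      rw [← e1, ← mul_assoc, (comm_of_mem hca r.2).eq, mul_assoc, hb', mul_zero]
    exact ⟨Ideal.Quotient.eq_zero_iff_mem.2 (hAP hr), Ideal.Quotient.eq_zero_iff_mem.2 (hAP hs)⟩
  let Rel : Eˣ → Matrix (Fin 2) (Fin 2) K → Prop := fun γ M =>
    Form p a b γ ∧ ∃ r00 r10 r01 r11 : R, M = !![χ r00, χ r01; χ r10, χ r11] ∧
      (γ : E) * a = (r00 : E) * a + (r10 : E) * (b * a) ∧
      (γ : E) * (b * a) = (r01 : E) * a + (r11 : E) * (b * a)
  have hfun : ∀ γ M N, Rel γ M → Rel γ N → M = N := by
    rintro γ M N ⟨-, r00, r10, r01, r11, rfl, e0, e1⟩ ⟨-, s00, s10, s01, s11, rfl, f0, f1⟩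
    have k0 := huniq (r00 - s00) (r10 - s10) (by
      push_cast; rw [sub_mul, sub_mul, sub_add_sub_comm, ← e0, ← f0, sub_self])
    have k1 := huniq (r01 - s01) (r11 - s11) (by
      push_cast; rw [sub_mul, sub_mul, sub_add_sub_comm, ← e1, ← f1, sub_self])
    rw [map_sub, map_sub, sub_eq_zero, sub_eq_zero] at k0 k1
    rw [k0.1, k0.2, k1.1, k1.2]
  have hcent : ∀ (γ : Eˣ), Form p a b γ → ∀ s : R, Commute (γ : E) (s : E) := by
    rintro γ ⟨r, hr, x, hx, t, ht, w, hw, -, e, -⟩ s
    have hR : ∀ y ∈ RR (p := p) a b, Commute (y : E) (s : E) := fun y hy =>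
      (comm_of_mem (comm_of_mem (Commute.refl _) s.2).symm hy)
    have hsa : Commute a (s : E) := (comm_of_mem hca s.2).symm
    have hsb : Commute b (s : E) := (comm_of_mem (cc_comm_right (a := a) hb) s.2).symm
    rw [e]
    exact (((hR r hr).add_left ((hR x hx).mul_left hsa)).add_left ((hR t ht).mul_left hsb)).add_left
      ((hR w hw).mul_left (hsa.mul_left hsb))
  have e1a : a * (b * a) = cc a b * a := by
    rw [cc, add_mul, mul_assoc b a a, ha, mul_zero, add_zero, mul_assoc]
  have hone : Rel 1 1 := ⟨Form.one, 1, 0, 0, 1, by simp [Matrix.one_fin_two], by simp, by simp⟩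
  have hmul : ∀ γ δ M N, Form p a b (γ * δ) → Rel γ M → Rel δ N → Rel (γ * δ) (M * N) := by
    rintro γ δ M N hF ⟨hγ, r00, r10, r01, r11, rfl, e0, e1⟩ ⟨-, s00, s10, s01, s11, rfl, f0, f1⟩
    have key : ∀ (x y : R), (γ : E) * ((x : E) * a + (y : E) * (b * a)) =
        ((r00 * x + r01 * y : R) : E) * a + ((r10 * x + r11 * y : R) : E) * (b * a) := by
      intro x y
      rw [mul_add, ← mul_assoc, (hcent γ hγ x).eq, mul_assoc, e0, ← mul_assoc (γ : E) (y : E),
        (hcent γ hγ y).eq, mul_assoc, e1, mul_comm r00, mul_comm r01, mul_comm r10, mul_comm r11]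
      push_cast
      simp only [mul_add, add_mul, mul_assoc]
      abel
    refine ⟨hF, r00 * s00 + r01 * s10, r10 * s00 + r11 * s10, r00 * s01 + r01 * s11,
      r10 * s01 + r11 * s11, ?_, ?_, ?_⟩
    · rw [Matrix.mul_fin_two, ← map_mul, ← map_mul, ← map_mul, ← map_mul, ← map_mul, ← map_mul,
        ← map_mul, ← map_mul, ← map_add, ← map_add, ← map_add, ← map_add]
    · rw [Units.val_mul, mul_assoc, f0, key]
    · rw [Units.val_mul, mul_assoc, f1, key]
  set Γ := closure ({u, v} : Set Eˣ) with hΓ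
  have hgens : Rel u !![1, lam; 0, 1] ∧ Rel v !![1, 0; 1, 1] := by
    have hFu : Form p a b u := form_of_mem ha hb hu hv (subset_closure (Set.mem_insert _ _))
    have hFv : Form p a b v :=
      form_of_mem ha hb hu hv (subset_closure (Set.mem_insert_of_mem _ rfl))
    constructor
    · refine ⟨hFu, 1, 0, c0, 1, by simp [lam], ?_, ?_⟩
      · rw [hu, add_mul, ha]; simp
      · rw [hu, add_mul, one_mul, e1a]; simp [c0, add_comm]
    · refine ⟨hFv, 1, 1, 0, 1, by simp, ?_, ?_⟩
      · rw [hv, add_mul]; simp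
      · rw [hv, add_mul, ← mul_assoc b b a, hb]; simp
  have hall : ∀ γ ∈ Γ, ∃ M : Matrix.SpecialLinearGroup (Fin 2) K, Rel γ M := by
    intro γ hγ
    rw [hΓ, ← Subgroup.mem_toSubmonoid, closure_toSubmonoid_of_finite] at hγ
    induction hγ using Submonoid.closure_induction_right with
    | one => exact ⟨1, hone⟩
    | mul_right x hx y hy ih =>
      obtain ⟨M, hM⟩ := ih
      have hF : Form p a b (x * y) := by
        refine form_of_mem ha hb hu hv ?_
        rw [← Subgroup.mem_toSubmonoid, closure_toSubmonoid_of_finite]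
        exact mul_mem hx (Submonoid.subset_closure hy)
      rcases hy with rfl | rfl
      · exact ⟨M * ⟨!![1, lam; 0, 1], by simp [Matrix.det_fin_two_of]⟩, hmul _ _ _ _ hF hM hgens.1⟩
      · exact ⟨M * ⟨!![1, 0; 1, 1], by simp [Matrix.det_fin_two_of]⟩, hmul _ _ _ _ hF hM hgens.2⟩
  choose Mf hMf using hall
  let φ : Γ →* Matrix.SpecialLinearGroup (Fin 2) K :=
    { toFun := fun γ => Mf γ.1 γ.2
      map_one' := Subtype.ext (hfun _ _ _ (hMf 1 (one_mem Γ)) hone)
      map_mul' := fun γ δ => Subtype.ext (hfun _ _ _ (hMf _ (mul_mem γ.2 δ.2))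
        (hmul _ _ _ _ (hMf _ (mul_mem γ.2 δ.2)).1 (hMf _ γ.2) (hMf _ δ.2))) }
  have hle : closure {g : Matrix.SpecialLinearGroup (Fin 2) K |
      (g : Matrix (Fin 2) (Fin 2) K) = !![1, 0; 1, 1] ∨
        (g : Matrix (Fin 2) (Fin 2) K) = !![1, lam; 0, 1]} ≤ φ.range := by
    rw [closure_le]
    rintro g (hg | hg)
    · exact ⟨⟨v, subset_closure (Set.mem_insert_of_mem _ rfl)⟩, Subtype.ext
        ((hfun _ _ _ (hMf _ _) hgens.2).trans hg.symm)⟩
    · exact ⟨⟨u, subset_closure (Set.mem_insert _ _)⟩, Subtype.ext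
        ((hfun _ _ _ (hMf _ _) hgens.1).trans hg.symm)⟩
  refine dvd_trans ?_ ((card_dvd_of_le hle).trans (Subgroup.card_range_dvd φ))
  rcases Cfsg.Agent.S0801.result h2 lam hlam hgen with ⟨h, -⟩ | ⟨-, -, h⟩
  · rw [h, Subgroup.card_top]
    haveI : Fintype (Matrix.SpecialLinearGroup (Fin 2) K) := Fintype.ofFinite _
    have hord : orderOf (-1 : Matrix.SpecialLinearGroup (Fin 2) K) = 2 := by
      refine orderOf_eq_prime (by simp) fun h1 => h2 ?_
      have h00 := congrArg (fun g : Matrix.SpecialLinearGroup (Fin 2) K => g.1 0 0) h1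
      simp at h00
      linear_combination -h00
    have h' := orderOf_dvd_natCard (G := Matrix.SpecialLinearGroup (Fin 2) K) (-1)
    rwa [hord] at h'
  · rw [h]; norm_num

/-- With a nilpotent central element the group is a `p`-group. -/
theorem isPGroup_of_nilpotent (ha : a * a = 0) (hb : b * b = 0) (hc : IsNilpotent (cc a b))
    {u v : Eˣ} (hu : (u : E) = 1 + a) (hv : (v : E) = 1 + b) :
    IsPGroup p ↥(closure ({u, v} : Set Eˣ)) := by
  rintro ⟨γ, hγ⟩
  have hF : Form p a b γ := form_of_mem ha hb hu hv hγ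
  obtain ⟨z, hz, hsum, k, hk, hk'⟩ := trace_central ha hb hF
  have hkc : Commute k (cc a b) := comm_of_mem (Commute.refl _) hk
  have hn : IsNilpotent (z - 2) := by
    rw [hk', add_sub_cancel_left]
    exact hkc.isNilpotent_mul_left hc
  have hzγ : Commute z (γ : E) := by
    rw [← hsum]
    exact (Commute.refl _).add_left (Units.commute_coe_inv γ).symm
  have hsq : ((γ : E) - 1) ^ 2 = (z - 2) * γ := by
    rw [← hsum, pow_two, sub_mul, mul_sub, mul_one, one_mul, sub_mul, add_mul, Units.inv_mul, two_mul]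
    abel
  have hnil : IsNilpotent ((γ : E) - 1) := by
    obtain ⟨n, hn'⟩ := (hzγ.sub_left ((Commute.ofNat_left 2 (γ : E)))).isNilpotent_mul_right hn
    exact ⟨2 * n, by rw [pow_mul, hsq, hn']⟩
  obtain ⟨n, hn⟩ := hnil
  refine ⟨n, Subtype.ext (Units.ext ?_)⟩
  rcases subsingleton_or_nontrivial E with hE | hE
  · exact Subsingleton.elim _ _
  haveI : CharP E p := charP_of_injective_algebraMap (algebraMap (ZMod p) E).injective p
  have h1 : ((γ : E) - 1) ^ p ^ n = 0 := pow_eq_zero_of_le (Nat.lt_pow_self (Fact.out : p.Prime).one_lt).le hn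
  rw [sub_pow_char_pow_of_commute (p := p) n (Commute.one_right _), one_pow, sub_eq_zero] at h1
  simpa using h1

/-- Two quadratic units generating more than a `p`-group are centralised by an involution. -/
theorem exists_involution (hp : p ≠ 2) (ha : a * a = 0) (hb : b * b = 0) {u v : Eˣ}
    (hu : (u : E) = 1 + a) (hv : (v : E) = 1 + b) (h : ¬ IsPGroup p ↥(closure ({u, v} : Set Eˣ))) :
    ∃ j ∈ closure ({u, v} : Set Eˣ), j * j = 1 ∧ j ≠ 1 ∧ j * u = u * j ∧ j * v = v * j := by
  have hc : ¬ IsNilpotent (cc a b) := fun hc => h (isPGroup_of_nilpotent ha hb hc hu hv)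
  haveI : Fact (Nat.Prime 2) := ⟨Nat.prime_two⟩
  obtain ⟨⟨j, hj⟩, hord⟩ := exists_prime_orderOf_dvd_card' 2 (two_dvd_card hp ha hb hc hu hv)
  rw [Subgroup.orderOf_mk, orderOf_eq_prime_iff, pow_two] at hord
  obtain ⟨hj2, hj1⟩ := hord
  obtain ⟨z, hz, hsum, -⟩ := trace_central (p := p) ha hb (form_of_mem ha hb hu hv hj)
  rw [inv_eq_of_mul_eq_one_right hj2] at hsum
  have key : ∀ x : E, Commute z x → Commute (j : E) x := by
    intro x hx
    rw [← hsum, ← two_smul (ZMod p) (j : E)] at hx
    have h2 : (2 : ZMod p) ≠ 0 := by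
      intro h2
      have : p ∣ 2 := (ZMod.natCast_eq_zero_iff 2 p).1 (by exact_mod_cast h2)
      exact hp ((Nat.prime_dvd_prime_iff_eq Fact.out Nat.prime_two).1 this)
    simpa [smul_smul, inv_mul_cancel₀ h2] using hx.smul_left (2 : ZMod p)⁻¹
  refine ⟨j, hj, hj2, hj1, Units.ext ?_, Units.ext ?_⟩
  · rw [Units.val_mul, Units.val_mul, hu]
    exact (Commute.one_right _).add_right (key a (comm_of_mem (cc_comm_left ha) hz))
  · rw [Units.val_mul, Units.val_mul, hv]
    exact (Commute.one_right _).add_right (key b (comm_of_mem (cc_comm_right hb) hz))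

end Cfsg.Lib.Local.SL2Embed
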