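import Cfsg.Agent.Lib.Local.SL2Embed.Basic

/-!
# The Sylow subgroup and the stabiliser of an axis
-/

set_option autoImplicit false
set_option linter.unusedSectionVars false

namespace Cfsg.Lib.Local.SL2Embed

open Subgroup Matrix
open scoped MatrixGroups

variable {p : ℕ} [Fact p.Prime] {F : Type*} [Field F] [Algebra (ZMod p) F] [Finite F]

instance : Finite (Aut2 p F) :=
  Finite.of_injective (fun (g : Aut2 p F) (w : Fin 2 → F) => g • w)
    fun _ _ h => smul_smul_ext (congrFun h)

theorem natCast_smul_eq_zero (w : Fin 2 → F) : p • w = 0 := by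
  haveI : CharP F p := charP_of_injective_algebraMap (algebraMap (ZMod p) F).injective p
  funext i
  rw [Pi.smul_apply, nsmul_eq_mul, CharP.cast_eq_zero, zero_mul, Pi.zero_apply]

theorem natCard_field : Nat.card F = p ^ Module.finrank (ZMod p) F := by
  rw [Module.natCard_eq_pow_finrank (K := ZMod p), Nat.card_zmod]

theorem finrank_field_pos : 0 < Module.finrank (ZMod p) F := Module.finrank_pos

theorem dvd_natCard_vec : p ∣ Nat.card (Fin 2 → F) := by
  rw [Nat.card_fun, natCard_field (p := p), Nat.card_fin, ← pow_mul]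
  exact dvd_pow_self p (Nat.mul_pos finrank_field_pos two_pos).ne'

theorem isPGroup_UU : IsPGroup p ↥(UU p F) := fun ⟨g, hg⟩ => by
  obtain ⟨b, rfl⟩ := mem_UU.1 hg
  exact ⟨1, Subtype.ext (by rw [SubgroupClass.coe_pow, pow_one]; exact uU_pow_p b)⟩

theorem UU_le : UU p F ≤ (slU (p := p) (F := F)).range := fun _ hg => by
  obtain ⟨b, rfl⟩ := mem_UU.1 hg
  exact ⟨upM b, rfl⟩

/-- An element fixing `v` on the first axis and semilinear for `id` fixes that axis pointwise. -/
theorem fix_axis {d : Aut2 p F} (hd : Semi id d) {v : Fin 2 → F} (hv : v ≠ 0) (hv1 : v 1 = 0)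
    (h : d • v = v) {w : Fin 2 → F} (hw : w 1 = 0) : d • w = w := by
  have hv0 : v 0 ≠ 0 := fun h0 => hv (by funext i; fin_cases i <;> simp [h0, hv1])
  have e : w = (w 0 / v 0) • v := by funext i; fin_cases i <;> simp [hv0, hv1, hw]
  rw [e, hd, id_eq, h]

/-- An element with a scalar matrix form on the axis. -/
theorem presZ_of_conj {h : Aut2 p F} {b c : F} (hc : c ≠ 0) (e : h * uU b = uU c * h) : PresZ h := by
  intro w hw
  refine (uU_fix (p := p) hc _).1 ?_
  rw [← mul_smul, ← e, mul_smul]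
  congr 1
  rw [uU_smul, hw, mul_zero, add_zero]
  funext i; fin_cases i <;> simp [hw]

/-- A `p`-group of the special linear group containing the root group equals it. -/
theorem mem_UU_of_sl (Q : Subgroup (Aut2 p F)) (hQ : IsPGroup p ↥Q) (hUQ : UU p F ≤ Q)
    {A : SL(2, F)} (hA : slU A ∈ Q) : (slU A : Aut2 p F) ∈ UU p F := by
  obtain ⟨v, hv, hv0⟩ := hQ.exists_fixed_point_of_prime_dvd_card_of_fixed_point (Fin 2 → F)
    dvd_natCard_vec (a := 0) (fun q => smul_zero (q : Aut2 p F))
  have hv1 : v 1 = 0 :=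
    (uU_fix one_ne_zero v).1 (hv ⟨uU (1 : F), hUQ (mem_UU.2 ⟨1, rfl⟩)⟩)
  have hv00 : v 0 ≠ 0 := fun h => hv0 (by funext i; fin_cases i <;> simp [h, hv1])
  have e : (A : Matrix (Fin 2) (Fin 2) F) *ᵥ v = v := hv ⟨slU A, hA⟩
  rw [mulVec_two'] at e
  have e0 := congrFun e 0
  have e1 := congrFun e 1
  simp [hv1] at e0 e1
  have h00 : A.1 0 0 = 1 := mul_right_cancel₀ hv00 (e0.trans (one_mul _).symm)
  have h10 : A.1 1 0 = 0 := e1.resolve_right hv00
  have hd := A.2
  rw [Matrix.det_fin_two, h00, h10, one_mul, mul_zero, sub_zero] at hd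
  refine mem_UU.2 ⟨A.1 0 1, congrArg slU (Subtype.ext ?_)⟩
  ext i j
  fin_cases i <;> fin_cases j <;> simp [upM, h00, h10, hd]

variable (G : Subgroup (Aut2 p F))

/-- The hypotheses: `SL₂(F) ≤ G` and the normaliser has index prime to `p`. -/
structure Embedded : Prop where
  le : (slU (p := p) (F := F)).range ≤ G
  sylow : ¬ p ∣ (G ⊓ normalizer ((slU (p := p) (F := F)).range : Set (Aut2 p F))).relIndex G

variable {G}

/-- A Sylow subgroup of the group containing the root group, made of semilinear maps fixing the axis. -/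
theorem Embedded.exists_sylow (hG : Embedded G) :
    ∃ P : Subgroup (Aut2 p F), IsPGroup p ↥P ∧ P ≤ G ∧ UU p F ≤ P ∧ ¬ p ∣ P.relIndex G ∧
      ∀ x ∈ P, PresZ x ∧ ∃ σ, Semi σ x := by
  set N := G ⊓ normalizer ((slU (p := p) (F := F)).range : Set (Aut2 p F))
  have hUN : UU p F ≤ N := le_inf (UU_le.trans hG.le) (UU_le.trans le_normalizer)
  obtain ⟨S, hS⟩ := (isPGroup_UU.comap_subtype (K := N)).exists_le_sylow
  refine ⟨(S : Subgroup N).map N.subtype, S.2.map _, (map_subtype_le _).trans inf_le_left,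
    fun x hx => ⟨⟨x, hUN hx⟩, hS hx, rfl⟩, ?_, ?_⟩
  · rw [← relIndex_mul_relIndex _ N G (map_subtype_le _) inf_le_left]
    refine fun h => ((Fact.out : p.Prime).dvd_mul.1 h).elim ?_ hG.sylow
    rw [relIndex, subgroupOf, comap_map_eq_self_of_injective N.subtype_injective]
    exact S.not_dvd_index
  · rintro _ ⟨x, hx, rfl⟩
    refine ⟨?_, exists_semi_of_normalizes (x.2.2 : (x : Aut2 p F) ∈ _)⟩
    set Q := ((S : Subgroup N).map N.subtype) ⊓ (slU (p := p) (F := F)).range
    have hQ : IsPGroup p ↥Q := (S.2.map N.subtype).to_le inf_le_left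
    have hUQ : UU p F ≤ Q := le_inf (fun y hy => ⟨⟨y, hUN hy⟩, hS hy, rfl⟩) UU_le
    obtain ⟨A, hA⟩ : (x : Aut2 p F) * uU 1 * (x : Aut2 p F)⁻¹ ∈ (slU (p := p) (F := F)).range :=
      (mem_normalizer_iff.1 x.2.2 _).1 ⟨upM 1, rfl⟩
    have hxQ : (slU A : Aut2 p F) ∈ Q := by
      have hxS : (x : Aut2 p F) ∈ (S : Subgroup N).map N.subtype :=
        Subgroup.mem_map_of_mem N.subtype hx
      have huS : (uU 1 : Aut2 p F) ∈ (S : Subgroup N).map N.subtype :=
        (hUQ (mem_UU.2 ⟨1, rfl⟩)).1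
      refine mem_inf.2 ⟨?_, A, rfl⟩
      rw [hA]
      exact mul_mem (mul_mem hxS huS) (inv_mem hxS)
    obtain ⟨b, hb⟩ := mem_UU.1 (mem_UU_of_sl Q hQ hUQ hxQ)
    rw [hA] at hb
    refine presZ_of_conj (b := 1) (c := b) ?_ (eq_mul_inv_iff_mul_eq.1 hb).symm
    rintro rfl
    rw [uU_zero, eq_comm, conj_eq_one_iff] at hb
    exact one_ne_zero (uU_injective (hb.trans uU_zero.symm))

/-- Elements fixing the axis pointwise and acting trivially on the quotient are root elements. -/
theorem Embedded.mem_UU_of_series (hG : Embedded G) {a : Aut2 p F} (ha : a ∈ G)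
    (h1 : ∀ w : Fin 2 → F, w 1 = 0 → a • w = w) (h2 : ∀ w : Fin 2 → F, (a • w) 1 = w 1) :
    a ∈ UU p F := by
  obtain ⟨P, hP, hPG, hUP, hPi, hPx⟩ := hG.exists_sylow
  let A : Subgroup (Aut2 p F) :=
    { carrier := {g | g ∈ G ∧ (∀ w : Fin 2 → F, w 1 = 0 → g • w = w) ∧
        ∀ w : Fin 2 → F, (g • w) 1 = w 1}
      one_mem' := ⟨one_mem G, fun w _ => one_smul _ w, fun w => by rw [one_smul]⟩
      mul_mem' := fun {g h} hg hh => ⟨mul_mem hg.1 hh.1,
        fun w hw => by rw [mul_smul, hh.2.1 w hw, hg.2.1 w hw],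
        fun w => by rw [mul_smul, hg.2.2, hh.2.2]⟩
      inv_mem' := fun {g} hg => ⟨inv_mem hg.1, fun w hw => inv_smul_eq_iff.2 (hg.2.1 w hw).symm,
        fun w => by rw [← hg.2.2 (g⁻¹ • w), smul_inv_smul]⟩ }
  have hA : IsPGroup p ↥A := fun ⟨g, hg⟩ => ⟨1, Subtype.ext (smul_smul_ext fun w => by
    have key : ∀ n : ℕ, g ^ n • w = w + n • (g • w - w) := fun n => by
      induction n with
      | zero => simp
      | succ n ih =>
        have hd : (g • w - w) 1 = 0 := by rw [Pi.sub_apply, hg.2.2, sub_self]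
        rw [pow_succ', mul_smul, ih, smul_add, smul_comm g n, hg.2.1 _ hd, succ_nsmul]
        abel
    rw [SubgroupClass.coe_pow, pow_one, key, natCast_smul_eq_zero, add_zero, Subgroup.coe_one,
      one_smul])⟩
  have hnorm : P ≤ normalizer (A : Set (Aut2 p F)) := by
    intro x hx
    suffices ∀ x ∈ P, ∀ g ∈ A, x * g * x⁻¹ ∈ A from mem_normalizer_iff.2 fun g =>
      ⟨this x hx g, fun hg => by
        simpa [mul_assoc] using this x⁻¹ (inv_mem hx) _ hg⟩
    intro x hx g hg
    refine ⟨mul_mem (mul_mem (hPG hx) hg.1) (inv_mem (hPG hx)), fun w hw => ?_, fun w => ?_⟩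
    · rw [mul_smul, mul_smul, hg.2.1 _ ((hPx x hx).1.inv w hw), smul_inv_smul]
    · have hd : (g • x⁻¹ • w - x⁻¹ • w) 1 = 0 := by rw [Pi.sub_apply, hg.2.2, sub_self]
      have := (hPx x hx).1 _ hd
      rw [smul_sub, smul_inv_smul, Pi.sub_apply, sub_eq_zero] at this
      rwa [mul_smul, mul_smul]
  have hJ : IsPGroup p ↥(P ⊔ A : Subgroup (Aut2 p F)) := hP.to_sup_of_normal_right' hA hnorm
  have hJG : P ⊔ A ≤ G := sup_le hPG fun g hg => hg.1
  have hJP : P ⊔ A ≤ P := by
    rw [← relIndex_eq_one]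
    by_contra hne
    obtain ⟨k, hk⟩ := IsPGroup.iff_card.1 hJ
    have hd : P.relIndex (P ⊔ A) ∣ p ^ k := hk ▸ relIndex_dvd_card _ _
    obtain ⟨i, -, hi⟩ := (Nat.dvd_prime_pow (Fact.out : p.Prime)).1 hd
    refine hPi ?_
    rw [← relIndex_mul_relIndex P (P ⊔ A) G le_sup_left hJG, hi]
    exact Dvd.dvd.mul_right (dvd_pow_self p fun h => hne (by rw [hi, h, pow_zero])) _
  obtain ⟨σ, hσ⟩ := (hPx a (hJP (le_sup_right (a := P) (show a ∈ A from ⟨ha, h1, h2⟩)))).2
  have hid : Semi id a := fun c w => by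
    have e : σ = id := funext fun c => by
      have e := hσ c (![1, 0] : Fin 2 → F)
      rw [h1 _ (by simp), h1 _ (by simp)] at e
      simpa using (congrFun e 0).symm
    rw [hσ, e]
  refine mem_UU.2 ⟨(a • (![0, 1] : Fin 2 → F)) 0, smul_smul_ext fun w => ?_⟩
  rw [uU_smul, hid.smul_eq w, h1 ![1, 0] rfl, id_eq, id_eq]
  funext i
  fin_cases i <;> simp [h2, mul_comm]

/-- Two elements agreeing on the axis and on the quotient differ by a root element. -/
theorem Embedded.exists_uU (hG : Embedded G) {h k : Aut2 p F} (hh : h ∈ G) (hk : k ∈ G) (hkZ : PresZ k)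
    (h1 : ∀ w : Fin 2 → F, w 1 = 0 → h • w = k • w) (h2 : ∀ w : Fin 2 → F, (h • w) 1 = (k • w) 1) :
    ∃ c, h = uU c * k := by
  obtain ⟨c, hc⟩ := mem_UU.1 (hG.mem_UU_of_series (mul_mem hh (inv_mem hk))
    (fun w hw => by rw [mul_smul, h1 _ (hkZ.inv w hw), smul_inv_smul])
    (fun w => by rw [mul_smul, h2, smul_inv_smul]))
  exact ⟨c, by rw [hc, inv_mul_cancel_right]⟩

theorem exists_good_scalar (hq : 4 < Nat.card F) : ∃ z : F, z ≠ 0 ∧ z + 1 ≠ 0 ∧ z * z + z + 1 ≠ 0 := by
  classical
  letI := Fintype.ofFinite F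
  by_contra! h
  have bound : ∀ s : Finset F, (∀ z, z ∈ s) → s.card ≤ 4 → False := fun s hs hc => by
    rw [Nat.card_eq_fintype_card, ← Finset.card_univ] at hq
    exact absurd (hq.trans_le (Finset.card_le_card fun z _ => hs z)) (by omega)
  by_cases hr : ∃ r : F, r * r + r + 1 = 0
  · obtain ⟨r, hr⟩ := hr
    refine bound {0, -1, r, -1 - r} (fun z => ?_) Finset.card_le_four
    by_cases h0 : z = 0
    · simp [h0]
    by_cases h1 : z + 1 = 0
    · simp [eq_neg_of_add_eq_zero_left h1]
    have h2 : (z - r) * (z + r + 1) = 0 := by linear_combination h z h0 h1 - hr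
    rcases mul_eq_zero.1 h2 with e | e
    · simp [sub_eq_zero.1 e]
    · simp [show z = -1 - r by linear_combination e]
  · refine bound {0, -1} (fun z => ?_) (Finset.card_le_two.trans (by norm_num))
    by_cases h0 : z = 0
    · simp [h0]
    by_cases h1 : z + 1 = 0
    · simp [eq_neg_of_add_eq_zero_left h1]
    exact absurd ⟨z, h z h0 h1⟩ hr

/-- A map twisting like the difference of an element and its inverse is zero. -/
theorem twist_eq_zero (hq : 4 < Nat.card F) (s : F ≃+* F) (E : F →+ F) (hE1 : E 1 = 0)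
    (hE : ∀ l : F, l ≠ 0 → ∃ K, ∀ y, E (y / l) - s l * E y = K * s y) (y : F) : E y = 0 := by
  have key : ∀ m y : F, m ≠ 0 → E (m * y) = E y / s m + E m * s y := by
    intro m y hm
    obtain ⟨K, hK⟩ := hE m⁻¹ (inv_ne_zero hm)
    have e1 := hK 1
    rw [one_div, inv_inv, hE1, mul_zero, sub_zero, map_one, mul_one] at e1
    have e2 := hK y
    rw [div_inv_eq_mul, map_inv₀, ← e1, mul_comm y m] at e2
    rw [div_eq_inv_mul, ← e2]
    ring
  have sym : ∀ m y : F, m ≠ 0 → y ≠ 0 → E y * ((s m)⁻¹ - s m) = E m * ((s y)⁻¹ - s y) := by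
    intro m y hm hy
    have e := key y m hy
    rw [mul_comm, key m y hm] at e
    linear_combination e
  obtain ⟨z, hz0, hz1, hz2⟩ := exists_good_scalar hq
  obtain ⟨m, hm, hm'⟩ : ∃ m : F, m ≠ 0 ∧ (s m)⁻¹ - s m ≠ 0 := by
    by_contra! h
    have hpm : ∀ m : F, m ≠ 0 → m * m = 1 := fun m hm => by
      have e := sub_eq_zero.1 (h m hm)
      apply s.injective
      rw [map_mul, map_one]
      nth_rw 1 [← e]
      exact inv_mul_cancel₀ ((map_ne_zero s).2 hm)
    have e1 := hpm z hz0
    have e2 := hpm _ hz1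
    have h2z : 2 * z + 1 = 0 := by linear_combination e2 - e1
    by_cases hzm : z = 1
    · exact hz2 (by subst hzm; linear_combination h2z)
    · exact hz1 ((mul_eq_zero.1 (show (z - 1) * (z + 1) = 0 by linear_combination e1)).resolve_left
        (sub_ne_zero.2 hzm))
  have hK : ∀ y : F, y ≠ 0 → E y = E m / ((s m)⁻¹ - s m) * ((s y)⁻¹ - s y) := fun y hy => by
    rw [div_mul_eq_mul_div, eq_div_iff hm', sym m y hm hy]
  by_cases hy : y = 0
  · rw [hy, map_zero]
  suffices E m / ((s m)⁻¹ - s m) = 0 by rw [hK y hy, this, zero_mul]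
  have e := map_add E z 1
  rw [hE1, add_zero, hK _ hz1, hK z hz0] at e
  by_contra hK0
  have e' := mul_left_cancel₀ hK0 e
  rw [map_add, map_one] at e'
  have hsz : s z ≠ 0 := (map_ne_zero s).2 hz0
  have hsz1 : s z + 1 ≠ 0 := by rw [← map_one s, ← map_add]; exact (map_ne_zero s).2 hz1
  field_simp at e'
  apply hz2
  apply s.injective
  rw [map_add, map_add, map_mul, map_one, map_zero]
  linear_combination -e'

/-- The stabiliser of the axis consists of semilinear maps. -/
theorem Embedded.exists_semi (hG : Embedded G) (hq : 4 < Nat.card F) {g : Aut2 p F} (hg : g ∈ G)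
    (hgZ : PresZ g) : ∃ σ, Semi σ g := by
  have mk0 : ∀ x : F, (![x, 0] : Fin 2 → F) 1 = 0 := fun _ => rfl
  let A : F → F := fun x => (g • (![x, 0] : Fin 2 → F)) 0
  let C : F → F := fun y => (g • (![0, y] : Fin 2 → F)) 0
  let D : F → F := fun y => (g • (![0, y] : Fin 2 → F)) 1
  have hgw : ∀ w : Fin 2 → F, g • w = ![A (w 0) + C (w 1), D (w 1)] := fun w => by
    have hw : w = ![w 0, 0] + ![0, w 1] := by funext i; fin_cases i <;> simp
    conv_lhs => rw [hw, smul_add]
    funext i
    fin_cases i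
    · rfl
    · show (g • (![w 0, 0] : Fin 2 → F)) 1 + D (w 1) = D (w 1)
      rw [hgZ _ (mk0 _), zero_add]
  have hAadd : ∀ x y, A (x + y) = A x + A y := fun x y => by
    show (g • (![x + y, 0] : Fin 2 → F)) 0 = _
    rw [show (![x + y, 0] : Fin 2 → F) = ![x, 0] + ![y, 0] by funext i; fin_cases i <;> simp,
      smul_add, Pi.add_apply]
  have hCadd : ∀ x y, C (x + y) = C x + C y := fun x y => by
    show (g • (![0, x + y] : Fin 2 → F)) 0 = _
    rw [show (![0, x + y] : Fin 2 → F) = ![0, x] + ![0, y] by funext i; fin_cases i <;> simp,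
      smul_add, Pi.add_apply]
  have hAinj : Function.Injective A := fun x y h => by
    have e : g • (![x, 0] : Fin 2 → F) = g • ![y, 0] := by
      funext i
      fin_cases i
      · exact h
      · exact (hgZ _ (mk0 _)).trans (hgZ _ (mk0 _)).symm
    simpa using congrFun (MulAction.injective g e) 0
  have hA0 : A 0 = 0 := by simpa using hAadd 0 0
  have hC0 : C 0 = 0 := by simpa using hCadd 0 0
  have hD1 : D 1 ≠ 0 := fun h => by
    have h' := hgZ.inv (g • (![0, 1] : Fin 2 → F)) h
    rw [inv_smul_smul] at h'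
    exact one_ne_zero h'
  have hA1 : A 1 ≠ 0 := fun h => one_ne_zero (hAinj (h.trans hA0.symm))
  -- the root group
  have hroot : ∀ b y, A (b * y) * D 1 = A b * D y := by
    intro b y
    obtain ⟨c, hc⟩ := hG.exists_uU (h := g * uU b) (k := g)
      (mul_mem hg (hG.le ⟨upM b, rfl⟩)) hg hgZ
      (fun w hw => by rw [mul_smul, uU_smul, hw, mul_zero, add_zero, vec_eq w]; simp [hw])
      (fun w => by rw [mul_smul, hgw, hgw w, uU_smul]; simp)
    have key : ∀ y, A (b * y) = c * D y := fun y => by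
      have e := congrFun (congrArg (fun f : Aut2 p F => f • (![0, y] : Fin 2 → F)) hc) 0
      simp only [mul_smul] at e
      rw [uU_smul, uU_smul, hgw, hgw (![0, y] : Fin 2 → F)] at e
      simp [hA0] at e
      linear_combination e
    have k1 := key 1
    rw [mul_one] at k1
    rw [key y, k1]
    ring
  let sf : F → F := fun x => A x / A 1
  have hD : ∀ y, D y = D 1 * sf y := fun y => by
    have := hroot 1 y
    rw [one_mul] at this
    simp only [sf]
    field_simp
    linear_combination -this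
  have hsmul : ∀ x y, sf (x * y) = sf x * sf y := fun x y => by
    have := hroot x y
    rw [hD y] at this
    simp only [sf] at this ⊢
    field_simp at this ⊢
    linear_combination this
  have hsadd : ∀ x y, sf (x + y) = sf x + sf y := fun x y => by
    simp only [sf, hAadd, add_div]
  let s : F ≃+* F :=
    { Equiv.ofBijective sf (Finite.injective_iff_bijective.1 fun x y h =>
        hAinj ((div_left_inj' hA1).1 h)) with
      map_mul' := hsmul
      map_add' := hsadd }
  obtain ⟨a1, hA⟩ : ∃ a1, ∀ x, A x = a1 * s x := ⟨A 1, fun x => by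
    show A x = A 1 * (A x / A 1)
    field_simp⟩
  obtain ⟨d1, hDs⟩ : ∃ d1, ∀ y, D y = d1 * s y := ⟨D 1, hD⟩
  -- the torus
  let E : F →+ F :=
    AddMonoidHom.mk' (fun y => C y - C 1 * s y) fun x y => by simp only [hCadd, map_add]; ring
  have hE : ∀ y, E y = 0 := by
    refine twist_eq_zero hq s E (by show C 1 - C 1 * s 1 = 0; rw [map_one, mul_one, sub_self]) ?_
    intro l hl
    have hsl : s l ≠ 0 := (map_ne_zero s).2 hl
    obtain ⟨c, hc⟩ := hG.exists_uU (h := g * slU (dgM hl)) (k := slU (dgM hsl) * g)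
      (mul_mem hg (hG.le ⟨_, rfl⟩)) (mul_mem (hG.le ⟨_, rfl⟩) hg)
      ((show PresZ (slU (dgM hsl) : Aut2 p F) from fun w hw => by rw [dgM_smul]; simp [hw]).mul hgZ)
      (fun w hw => by
        rw [mul_smul, mul_smul, hgw, dgM_smul, dgM_smul, hgw w, hw]
        funext i
        fin_cases i
        · simp [hC0, hA]; ring
        · simp [hDs])
      (fun w => by
        rw [mul_smul, mul_smul, hgw, dgM_smul, dgM_smul, hgw w]
        simp [hDs]
        ring)
    refine ⟨c * d1 / s l - C 1 * (s l)⁻¹ + C 1 * s l, fun y => ?_⟩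
    have e := congrFun (congrArg (fun f : Aut2 p F => f • (![0, y] : Fin 2 → F)) hc) 0
    simp only [mul_smul] at e
    rw [dgM_smul, uU_smul, dgM_smul, hgw, hgw (![0, y] : Fin 2 → F)] at e
    simp [hA0, hDs, map_mul, map_inv₀] at e
    show (C (y / l) - C 1 * s (y / l)) - s l * (C y - C 1 * s y) = _
    rw [map_div₀]
    rw [mul_comm l⁻¹ y, ← div_eq_mul_inv] at e
    linear_combination e
  refine ⟨s, fun c w => ?_⟩
  rw [hgw, hgw w]
  have hC : ∀ y, C y = C 1 * s y := fun y => sub_eq_zero.1 (hE y)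
  funext i
  fin_cases i
  · simp [hA, hC (c * w 1), hC (w 1)]; ring
  · simp [hDs]; ring

/-- Field automorphisms are at most as many as the degree. -/
theorem natCard_autos_le : Nat.card (F ≃+* F) ≤ Module.finrank (ZMod p) F := by
  have h : Nat.card (F ≃+* F) ≤ Nat.card (Gal(F/ZMod p)) :=
    Nat.card_le_card_of_injective
      (fun s => AlgEquiv.ofRingEquiv (f := s) fun x =>
        RingHom.congr_fun (Subsingleton.elim (s.toRingHom.comp (algebraMap (ZMod p) F))
          (algebraMap (ZMod p) F)) x)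
      (fun s t h => RingEquiv.ext fun x => AlgEquiv.congr_fun h x)
  rwa [IsGalois.card_aut_eq_finrank] at h

variable (p) in
include p in
/-- A field has at most one involutive automorphism. -/
theorem invol_unique {σ τ : F ≃+* F} (hσ : ∀ x, σ (σ x) = x) (hτ : ∀ x, τ (τ x) = x)
    (hσ1 : ∃ x, σ x ≠ x) (hτ1 : ∃ x, τ x ≠ x) : σ = τ := by
  classical
  letI := Fintype.ofFinite (Gal(F/ZMod p))
  let e : (F ≃+* F) → Gal(F/ZMod p) := fun s => AlgEquiv.ofRingEquiv (f := s) fun x =>
    RingHom.congr_fun (Subsingleton.elim (s.toRingHom.comp (algebraMap (ZMod p) F))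
      (algebraMap (ZMod p) F)) x
  have he : ∀ s x, e s x = s x := fun _ _ => rfl
  by_contra hne
  have hc := IsCyclic.card_pow_eq_one_le (α := Gal(F/ZMod p)) (n := 2) two_pos
  have hs : ({1, e σ, e τ} : Finset (Gal(F/ZMod p))) ⊆
      Finset.univ.filter fun a => a ^ 2 = 1 := by
    intro a ha
    rw [Finset.mem_filter, pow_two]
    refine ⟨Finset.mem_univ _, AlgEquiv.ext fun x => ?_⟩
    simp only [Finset.mem_insert, Finset.mem_singleton] at ha
    rcases ha with rfl | rfl | rfl <;> simp [he, hσ, hτ]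
  have h3 : ({1, e σ, e τ} : Finset (Gal(F/ZMod p))).card = 3 := by
    rw [Finset.card_eq_three]
    refine ⟨_, _, _, ?_, ?_, ?_, rfl⟩
    · intro h
      obtain ⟨x, hx⟩ := hσ1
      exact hx (by rw [← he, ← h]; rfl)
    · intro h
      obtain ⟨x, hx⟩ := hτ1
      exact hx (by rw [← he, ← h]; rfl)
    · intro h
      exact hne (RingEquiv.ext fun x => by rw [← he, h, he])
  have := Finset.card_le_card hs
  omega

end Cfsg.Lib.Local.SL2Embed
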