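import Cfsg.Agent.Lib.Local.SL2Embed.Setup
import Cfsg.Agent.Lib.Local.SL2Embed.Quadratic

/-!
# Axes sharing a vector coincide, and the normality of the special linear group
-/

set_option autoImplicit false
set_option linter.unusedSectionVars false

namespace Cfsg.Lib.Local.SL2Embed

open Subgroup Matrix
open scoped MatrixGroups Pointwise

variable {p : ℕ} [Fact p.Prime] {F : Type*} [Field F] [Algebra (ZMod p) F] [Finite F]

theorem Semi.one : Semi id (1 : Aut2 p F) := fun c w => by simp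

theorem Semi.inv_mul_same {σ : F → F} {d d' : Aut2 p F} (hd : Semi σ d) (hd' : Semi σ d') :
    Semi id (d⁻¹ * d') := fun c w => MulAction.injective d <| by
  show d • (d⁻¹ * d') • c • w = d • (id c • (d⁻¹ * d') • w)
  rw [id_eq, hd, mul_smul, mul_smul, smul_inv_smul, smul_inv_smul, hd']

theorem Semi.mul_inv_same {σ : F → F} {d d' : Aut2 p F} (hd : Semi σ d) (hd' : Semi σ d') :
    Semi id (d * d'⁻¹) := fun c w => by
  obtain ⟨c, rfl⟩ := hd'.surjective c
  rw [id_eq, show σ c • w = d' • (c • d'⁻¹ • w) by rw [hd', smul_inv_smul], mul_smul,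
    inv_smul_smul, hd, mul_smul]

theorem Semi.conj {σ : F → F} {s x : Aut2 p F} (hs : Semi σ s) (hx : Semi id x) :
    Semi id (s * x * s⁻¹) :=
  Semi.mul_inv_same (σ := σ) (show Semi (σ ∘ id) (s * x) from hs.mul hx) hs

theorem Semi.invol {σ : F → F} {d : Aut2 p F} (hd : Semi σ d) (h : d * d = 1) (x : F) :
    σ (σ x) = x :=
  congrFun ((hd.mul hd).unique (show Semi id (d * d) from h ▸ Semi.one)) x

/-- Two involutions with nontrivial field automorphisms induce the same one. -/
theorem Semi.invol_eq {σ τ : F → F} {d d' : Aut2 p F} (hd : Semi σ d) (hd' : Semi τ d')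
    (h : d * d = 1) (h' : d' * d' = 1) (hσ : σ ≠ id) (hτ : τ ≠ id) : σ = τ := by
  have e := invol_unique p (σ := hd.aut) (τ := hd'.aut) (hd.invol h) (hd'.invol h')
    (Function.ne_iff.1 hσ) (Function.ne_iff.1 hτ)
  exact funext fun x => RingEquiv.congr_fun e x

/-- Two involutions with nontrivial field automorphisms have linear product. -/
theorem Semi.invol_mul {σ τ : F → F} {d d' : Aut2 p F} (hd : Semi σ d) (hd' : Semi τ d')
    (h : d * d = 1) (h' : d' * d' = 1) (hσ : σ ≠ id) (hτ : τ ≠ id) : Semi id (d * d') := by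
  have := hd.inv_mul_same (hd.invol_eq hd' h h' hσ hτ ▸ hd')
  rwa [inv_eq_of_mul_eq_one_right h] at this

variable {v : Fin 2 → F}

theorem v0_ne (hv : v ≠ 0) (hv1 : v 1 = 0) : v 0 ≠ 0 := fun h =>
  hv (by funext i; fin_cases i <;> simp [h, hv1])

/-- A linear map fixing a vector of the axis. -/
theorem linear_form (hv : v ≠ 0) (hv1 : v 1 = 0) {d : Aut2 p F} (hd : Semi id d) (hdv : d • v = v)
    (w : Fin 2 → F) :
    d • w = ![w 0 + w 1 * (d • (![0, 1] : Fin 2 → F)) 0, w 1 * (d • (![0, 1] : Fin 2 → F)) 1] := by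
  rw [hd.smul_eq w, fix_axis hd hv hv1 hdv (w := ![1, 0]) rfl, id_eq, id_eq]
  funext i
  fin_cases i <;> simp

/-- A semilinear map fixing a vector of the axis and commuting with a root element. -/
theorem scalar_of_commute_uU (hv : v ≠ 0) (hv1 : v 1 = 0) {d : Aut2 p F} {σ : F → F} (hd : Semi σ d)
    (hdv : d • v = v) {a : F} (hc : d * uU a = uU a * d) :
    σ (a / v 0) = a / v 0 * (d • (![0, 1] : Fin 2 → F)) 1 := by
  have hv0 := v0_ne hv hv1
  have e := congrFun (congrArg (fun g : Aut2 p F => g • (![0, 1] : Fin 2 → F)) hc) 0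
  simp only [mul_smul] at e
  rw [uU_smul, uU_smul, show (![(![(0 : F), 1] : Fin 2 → F) 0 + a * (![(0 : F), 1] : Fin 2 → F) 1,
      (![(0 : F), 1] : Fin 2 → F) 1] : Fin 2 → F) = (a / v 0) • v + ![0, 1] by
    funext i; fin_cases i <;> simp [hv0, hv1], smul_add, hd, hdv] at e
  simp at e
  field_simp
  linear_combination e

theorem uU_sq_zero (a : F) : (((uU a : Aut2 p F) : End2 p F) - 1) * ((uU a : Aut2 p F) - 1) = 0 := by
  refine LinearMap.ext fun w => ?_
  have e : ∀ w : Fin 2 → F, (((uU a : Aut2 p F) : End2 p F) - 1) w = ![a * w 1, 0] := fun w => by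
    show (uU a : Aut2 p F) • w - w = _
    rw [uU_smul]
    funext i; fin_cases i <;> simp
  rw [Module.End.mul_apply, e, e]
  simp

theorem uU_fix_v (hv1 : v 1 = 0) (a : F) : (uU a : Aut2 p F) • v = v := by
  rw [uU_smul, hv1, mul_zero, add_zero]
  funext i; fin_cases i <;> simp [hv1]

variable {G : Subgroup (Aut2 p F)}

instance : Finite (End2 p F) :=
  Finite.of_injective (fun (f : End2 p F) (w : Fin 2 → F) => f w)
    fun _ _ h => LinearMap.ext (congrFun h)

theorem conj_sq_zero (g : Aut2 p F) {y : Aut2 p F}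
    (h : ((y : End2 p F) - 1) * ((y : End2 p F) - 1) = 0) :
    (((g * y * g⁻¹ : Aut2 p F) : End2 p F) - 1) * (((g * y * g⁻¹ : Aut2 p F) : End2 p F) - 1) = 0 := by
  have e : ((g * y * g⁻¹ : Aut2 p F) : End2 p F) - 1 =
      (g : End2 p F) * ((y : End2 p F) - 1) * (g⁻¹ : Aut2 p F) := by
    rw [mul_sub, sub_mul, mul_one, Units.val_mul, Units.val_mul, Units.mul_inv]
  rw [e]
  simp only [mul_assoc]
  rw [Units.inv_mul_cancel_left, ← mul_assoc ((y : End2 p F) - 1), h, zero_mul, mul_zero]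

/-- An element fixing two independent axes in one vector, linear on both, is trivial. -/
theorem eq_one_of_two_axes (hv : v ≠ 0) (hv1 : v 1 = 0) {g : Aut2 p F} (hgv : (g⁻¹ • v) 1 = 0)
    (hgZ : ¬ PresZ g) {d : Aut2 p F} (hdv : d • v = v) (hd : Semi id d)
    (hd' : Semi id (g⁻¹ * d * g)) : d = 1 := by
  simp only [PresZ, not_forall] at hgZ
  obtain ⟨w, hw, hgw⟩ := hgZ
  have hne : g⁻¹ • v ≠ 0 := fun h => hv (by rw [← smul_inv_smul g v, h, smul_zero])
  have e := fix_axis hd' hne hgv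
    (show (g⁻¹ * d * g) • g⁻¹ • v = g⁻¹ • v by rw [mul_smul, smul_inv_smul, mul_smul, hdv]) hw
  rw [mul_smul, mul_smul, inv_smul_eq_iff] at e
  rw [linear_form hv hv1 hd hdv (g • w)] at e
  have e0 := congrFun e 0
  have e1 := congrFun e 1
  simp at e0 e1
  have hm : (d • (![0, 1] : Fin 2 → F)) 0 = 0 := e0.resolve_left hgw
  have hb : (d • (![0, 1] : Fin 2 → F)) 1 = 1 := (mul_eq_left₀ hgw).1 e1
  refine smul_smul_ext fun x => ?_
  rw [linear_form hv hv1 hd hdv x, hm, hb, one_smul]
  funext i; fin_cases i <;> simp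

/-- An odd-characteristic linear involution commuting with a root element is trivial. -/
theorem linear_invol_odd (hp : p ≠ 2) (hv : v ≠ 0) (hv1 : v 1 = 0) {d : Aut2 p F} (hd : Semi id d)
    (hdv : d • v = v) (hd2 : d * d = 1) {a : F} (ha : a ≠ 0) (hc : d * uU a = uU a * d) : d = 1 := by
  have hb := scalar_of_commute_uU hv hv1 hd hdv hc
  have ha0 : a / v 0 ≠ 0 := div_ne_zero ha (v0_ne hv hv1)
  rw [id_eq, eq_comm, mul_eq_left₀ ha0] at hb
  have e : d = uU ((d • (![0, 1] : Fin 2 → F)) 0) := smul_smul_ext fun w => by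
    rw [linear_form hv hv1 hd hdv w, uU_smul, hb]
    funext i; fin_cases i <;> simp [mul_comm]
  rw [e, ← uU_add, ← uU_zero] at hd2
  have h2 := uU_injective hd2
  rw [← two_mul] at h2
  haveI : CharP F p := charP_of_injective_algebraMap (algebraMap (ZMod p) F).injective p
  have h2F : (2 : F) ≠ 0 := Ring.two_ne_zero (by rw [ringChar.eq F p]; exact hp)
  rw [e, (mul_eq_zero.1 h2).resolve_left h2F, uU_zero]

/-- A quadratic element of the Sylow subgroup is a root element. -/
theorem mem_UU_of_quad (hp : p ≠ 2) {y : Aut2 p F} {σ : F → F} (hy : Semi σ y) (hyZ : PresZ y)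
    (hq : ((y : End2 p F) - 1) * ((y : End2 p F) - 1) = 0) : y ∈ UU p F := by
  haveI : CharP F p := charP_of_injective_algebraMap (algebraMap (ZMod p) F).injective p
  have h2F : (2 : F) ≠ 0 := Ring.two_ne_zero (by rw [ringChar.eq F p]; exact hp)
  have key : ∀ w : Fin 2 → F, y • (y • w - w) = y • w - w := fun w => by
    have e := LinearMap.congr_fun hq w
    simp at e
    rw [smul_sub]
    exact sub_eq_zero.1 e
  have h0 : ∀ (c : F) (w : Fin 2 → F), (2 * (σ (σ c) - σ c)) • y • w = (σ (σ c) - c) • w := by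
    intro c w
    have e1 := key w
    have e2 := key (c • w)
    rw [smul_sub] at e1 e2
    rw [hy, hy] at e2
    rw [sub_eq_iff_eq_add] at e1
    rw [e1] at e2
    funext i
    have := congrFun e2 i
    simp at this ⊢
    linear_combination this
  have hσ : σ = id := by
    by_contra hne
    obtain ⟨c, hc⟩ := Function.ne_iff.1 hne
    rw [id_eq] at hc
    by_cases hcc : σ (σ c) - σ c = 0
    · have e := h0 c ![1, 0]
      rw [hcc, mul_zero, zero_smul] at e
      have := congrFun e 0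
      simp [sub_eq_zero.1 hcc] at this
      exact hc (sub_eq_zero.1 this.symm)
    · have hlin : ∀ w : Fin 2 → F, y • w = ((σ (σ c) - c) / (2 * (σ (σ c) - σ c))) • w := fun w => by
        rw [div_eq_inv_mul, mul_smul, ← h0 c w, inv_smul_smul₀ (mul_ne_zero h2F hcc)]
      exact hne (hy.unique (show Semi id y from fun d w => by rw [hlin, hlin, id_eq, smul_comm]))
  subst hσ
  set m := (y • (![0, 1] : Fin 2 → F)) 0
  set β := (y • (![0, 1] : Fin 2 → F)) 1
  set μ := (y • (![1, 0] : Fin 2 → F)) 0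
  have hform : ∀ w : Fin 2 → F, y • w = ![μ * w 0 + m * w 1, β * w 1] := fun w => by
    rw [hy.smul_eq w]
    funext i
    fin_cases i
    · simp [μ, m, mul_comm]
    · simp [β, hyZ ![1, 0] rfl, mul_comm]
  have k1 := congrFun (key ![1, 0]) 0
  have k2 := congrFun (key ![0, 1]) 1
  rw [hform, hform ![1, 0]] at k1
  rw [hform, hform ![0, 1]] at k2
  simp at k1 k2
  have hμ : μ = 1 := sub_eq_zero.1 (mul_self_eq_zero.1 (by linear_combination k1))
  have hβ : β = 1 := sub_eq_zero.1 (mul_self_eq_zero.1 (by linear_combination k2))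
  refine mem_UU.2 ⟨m, smul_smul_ext fun w => ?_⟩
  rw [uU_smul, hform w, hμ, hβ]
  funext i; fin_cases i <;> simp

/-- Axes sharing a nonzero vector coincide: odd characteristic. -/
theorem Embedded.presZ_odd (hG : Embedded G) (hq : 4 < Nat.card F) (hp : p ≠ 2) {g : Aut2 p F}
    (hg : g ∈ G) (hv : v ≠ 0) (hv1 : v 1 = 0) (hgv : (g⁻¹ • v) 1 = 0) : PresZ g := by
  by_contra hgZ
  have hU : ∀ a : F, uU a ∈ G := fun a => hG.le ⟨upM a, rfl⟩
  have key : ∀ a : F, a ≠ 0 → ∃ (j : Aut2 p F) (σ : F → F), j * j = 1 ∧ j * uU a = uU a * j ∧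
      j • v = v ∧ Semi σ j ∧ σ ≠ id ∧ ∃ τ, Semi τ (g⁻¹ * j * g) ∧ τ ≠ id := by
    intro a ha
    set v' : Aut2 p F := g * uU 1 * g⁻¹ with hv'
    have hb : ((v' : End2 p F) - 1) * ((v' : End2 p F) - 1) = 0 := conj_sq_zero g (uU_sq_zero 1)
    set Γ : Subgroup (Aut2 p F) := closure {uU a, v'}
    have hΓG : Γ ≤ G := (closure_le G).2 (by
      rintro _ (rfl | rfl)
      · exact hU a
      · exact mul_mem (mul_mem hg (hU 1)) (inv_mem hg))
    have hΓv : Γ ≤ MulAction.stabilizer (Aut2 p F) v := (closure_le _).2 (by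
      rintro _ (rfl | rfl)
      · exact uU_fix_v hv1 a
      · show (g * uU 1 * g⁻¹) • v = v
        rw [mul_smul, mul_smul, uU_fix_v hgv, smul_inv_smul])
    by_cases hP : IsPGroup p ↥Γ
    · exfalso
      obtain ⟨P, hPp, hPG, hUP, hPi, hPx⟩ := hG.exists_sylow
      let S : Sylow p ↥G := (hPp.comap_subtype (K := G)).toSylow hPi
      obtain ⟨T, hT⟩ := (hP.comap_subtype (K := G)).exists_le_sylow
      obtain ⟨x, hx⟩ := MulAction.exists_smul_eq ↥G S T
      have hconj : ∀ y ∈ Γ, (x : Aut2 p F)⁻¹ * y * (x : Aut2 p F) ∈ P := by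
        intro y hy
        have h1 : (⟨y, hΓG hy⟩ : ↥G) ∈ (T : Subgroup ↥G) := hT hy
        rw [← hx, Sylow.coe_subgroup_smul, mem_pointwise_smul_iff_inv_smul_mem] at h1
        simpa [MulAut.smul_def, mem_subgroupOf, mul_assoc, S] using h1
      have hquad : ∀ y : Aut2 p F, y ∈ Γ → ((y : End2 p F) - 1) * ((y : End2 p F) - 1) = 0 →
          ∃ b, (x : Aut2 p F)⁻¹ * y * (x : Aut2 p F) = uU b := by
        intro y hy hsq
        obtain ⟨hZ, σ, hσ⟩ := hPx _ (hconj y hy)
        obtain ⟨b, hb⟩ := mem_UU.1 (mem_UU_of_quad hp hσ hZ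
          (by simpa only [inv_inv] using conj_sq_zero (x : Aut2 p F)⁻¹ hsq))
        exact ⟨b, hb.symm⟩
      obtain ⟨b, hbu⟩ := hquad _ (subset_closure (Set.mem_insert _ _)) (uU_sq_zero a)
      obtain ⟨c, hcu⟩ := hquad _ (subset_closure (Set.mem_insert_of_mem _ rfl)) hb
      have hxZ : PresZ (x : Aut2 p F) := presZ_of_conj ha (b := b) (by rw [← hbu]; group)
      have hgx : PresZ (g⁻¹ * (x : Aut2 p F)) :=
        presZ_of_conj one_ne_zero (b := c) (by rw [← hcu, hv']; group)
      refine hgZ ?_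
      have := (hgx.mul hxZ.inv).inv
      rwa [mul_inv_cancel_right, inv_inv] at this
    obtain ⟨j, hj, hj2, hj1, hju, hjv⟩ := exists_involution (p := p) hp (uU_sq_zero a) hb
      (u := uU a) (v := v') (by rw [add_sub_cancel]) (by rw [add_sub_cancel]) hP
    have hjfix : j • v = v := hΓv hj
    have hju' : g⁻¹ * j * g * uU 1 = uU 1 * (g⁻¹ * j * g) := by
      calc g⁻¹ * j * g * uU 1 = g⁻¹ * (j * v') * g := by rw [hv']; group
        _ = g⁻¹ * (v' * j) * g := by rw [hjv]
        _ = _ := by rw [hv']; group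
    have hjG' : g⁻¹ * j * g ∈ G := mul_mem (mul_mem (inv_mem hg) (hΓG hj)) hg
    obtain ⟨σ, hσ⟩ := hG.exists_semi hq (hΓG hj) (presZ_of_commute ha hju)
    obtain ⟨τ, hτ⟩ := hG.exists_semi hq hjG' (presZ_of_commute one_ne_zero hju')
    refine ⟨j, σ, hj2, hju, hjfix, hσ, ?_, τ, hτ, ?_⟩
    · rintro rfl
      exact hj1 (linear_invol_odd hp hv hv1 hσ hjfix hj2 ha hju)
    · rintro rfl
      have hne : g⁻¹ • v ≠ 0 := fun h => hv (by rw [← smul_inv_smul g v, h, smul_zero])
      have := linear_invol_odd hp hne hgv hτ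
        (by rw [mul_smul, smul_inv_smul, mul_smul, hjfix])
        (by rw [show g⁻¹ * j * g * (g⁻¹ * j * g) = g⁻¹ * (j * j) * g by group, hj2]; group)
        one_ne_zero hju'
      apply hj1
      calc j = g * (g⁻¹ * j * g) * g⁻¹ := by group
        _ = 1 := by rw [this]; group
  obtain ⟨j, σ, hj2, hj1u, hjv, hσ, hσne, τ, hτ, hτne⟩ := key 1 one_ne_zero
  have hall : ∀ a : F, σ (a / v 0) = a / v 0 * (j • (![0, 1] : Fin 2 → F)) 1 := by
    intro a
    refine scalar_of_commute_uU hv hv1 hσ hjv ?_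
    by_cases ha : a = 0
    · rw [ha, uU_zero, one_mul, mul_one]
    obtain ⟨k, σ', hk2, hku, hkv, hσ', hσne', τ', hτ', hτne'⟩ := key a ha
    have hjg : (g⁻¹ * j * g) * (g⁻¹ * j * g) = 1 := by
      rw [show g⁻¹ * j * g * (g⁻¹ * j * g) = g⁻¹ * (j * j) * g by group, hj2]; group
    have hkg : (g⁻¹ * k * g) * (g⁻¹ * k * g) = 1 := by
      rw [show g⁻¹ * k * g * (g⁻¹ * k * g) = g⁻¹ * (k * k) * g by group, hk2]; group
    have e := eq_one_of_two_axes hv hv1 hgv hgZ (d := j * k) (by rw [mul_smul, hkv, hjv])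
      (hσ.invol_mul hσ' hj2 hk2 hσne hσne')
      (by
        rw [show g⁻¹ * (j * k) * g = g⁻¹ * j * g * (g⁻¹ * k * g) by group]
        exact hτ.invol_mul hτ' hjg hkg hτne hτne')
    rwa [mul_eq_one_iff_eq_inv.1 e, inv_eq_of_mul_eq_one_right hk2]
  have hv0 := v0_ne hv hv1
  have hone : σ 1 = 1 := map_one hσ.aut
  have hb := hall (v 0)
  rw [div_self hv0, hone, one_mul] at hb
  exact hσne (funext fun x => by simpa [hv0, ← hb] using hall (x * v 0))

theorem revPow_sq {H : Type*} [Group H] {u r : H} (hu : u * u = 1) (h : SemiconjBy u r r⁻¹)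
    (n : ℕ) : u * r ^ n * (u * r ^ n) = 1 := by
  rw [← mul_assoc, (h.pow_right n).eq, inv_pow, mul_assoc (r ^ n)⁻¹ u u, hu, mul_one,
    inv_mul_cancel]

theorem revPow_conj {H : Type*} [Group H] {u r : H} (hu : u * u = 1) (n : ℕ) :
    u * r ^ n * u * (u * r ^ n) = u * (r ^ n * r ^ n) := by
  rw [mul_assoc (u * r ^ n), ← mul_assoc u u, hu, one_mul, mul_assoc]

theorem uU_mul_self (hp : p = 2) (a : F) : (uU a : Aut2 p F) * uU a = 1 := by
  rw [← pow_two]
  subst hp
  exact uU_pow_p a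

theorem three_mul_two_pow : ∀ f : ℕ, 3 ≤ f → 4 + 4 * f < 3 * 2 ^ f := by
  intro f hf
  induction f, hf using Nat.le_induction with
  | base => norm_num
  | succ n hn ih => rw [pow_succ]; omega

theorem conj_mul_self {g d : Aut2 p F} (h : d * d = 1) :
    g⁻¹ * d * g * (g⁻¹ * d * g) = 1 := by
  rw [show g⁻¹ * d * g * (g⁻¹ * d * g) = g⁻¹ * (d * d) * g by group, h]; group

/-- A linear involution fixing a vector of the axis in characteristic two is a root element. -/
theorem linear_invol_two (hp : p = 2) (hv : v ≠ 0) (hv1 : v 1 = 0) {d : Aut2 p F} (hd : Semi id d)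
    (hdv : d • v = v) (hd2 : d * d = 1) : d = uU ((d • (![0, 1] : Fin 2 → F)) 0) := by
  haveI : CharP F p := charP_of_injective_algebraMap (algebraMap (ZMod p) F).injective p
  haveI : CharP F 2 := hp ▸ ‹CharP F p›
  set m := (d • (![0, 1] : Fin 2 → F)) 0 with hm
  set β := (d • (![0, 1] : Fin 2 → F)) 1 with hβ
  have e := congrFun (congrArg (fun g : Aut2 p F => g • (![0, 1] : Fin 2 → F)) hd2) 1
  simp only [mul_smul, one_smul] at e
  rw [linear_form hv hv1 hd hdv (d • (![0, 1] : Fin 2 → F))] at e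
  have hb : β * β = 1 := by simpa [← hβ] using e
  have hb1 : β = 1 := by
    refine sub_eq_zero.1 (mul_self_eq_zero.1 ?_)
    linear_combination hb + (1 - β) * (CharTwo.two_eq_zero (R := F))
  refine smul_smul_ext fun w => ?_
  rw [linear_form hv hv1 hd hdv w, uU_smul, ← hm, ← hβ, hb1]
  funext i; fin_cases i <;> simp [mul_comm]

instance : Finite (F ≃+* F) := Finite.of_injective _ DFunLike.coe_injective

/-- Axes sharing a nonzero vector coincide: characteristic two. -/
theorem Embedded.presZ_two (hG : Embedded G) (hq : 4 < Nat.card F) (hp : p = 2) {g : Aut2 p F}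
    (hg : g ∈ G) (hv : v ≠ 0) (hv1 : v 1 = 0) (hgv : (g⁻¹ • v) 1 = 0) : PresZ g := by
  classical
  letI := Fintype.ofFinite F
  by_contra hgZ
  have hU : ∀ a : F, uU a ∈ G := fun a => hG.le ⟨upM a, rfl⟩
  have hne : g⁻¹ • v ≠ 0 := fun h => hv (by rw [← smul_inv_smul g v, h, smul_zero])
  have fixg : ∀ d : Aut2 p F, d • v = v → (g⁻¹ * d * g) • g⁻¹ • v = g⁻¹ • v := fun d hd => by
    rw [mul_smul, smul_inv_smul, mul_smul, hd]
  -- a conjugate root element moving the axis
  obtain ⟨h, hh⟩ : ∃ h : F, ¬ PresZ (g * uU h * g⁻¹) := by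
    by_contra! H
    have hmem : ∀ x, g * uU x * g⁻¹ ∈ G := fun x => mul_mem (mul_mem hg (hU x)) (inv_mem hg)
    choose σ hσ using fun x => hG.exists_semi hq (hmem x) (H x)
    have hfix : ∀ x, (g * uU x * g⁻¹) • v = v := fun x => by
      rw [mul_smul, mul_smul, uU_fix_v hgv, smul_inv_smul]
    have hsq : ∀ x, g * uU x * g⁻¹ * (g * uU x * g⁻¹) = 1 := fun x => by
      rw [show g * uU x * g⁻¹ * (g * uU x * g⁻¹) = g * (uU x * uU x) * g⁻¹ by group,
        uU_mul_self hp]; group
    have lin0 : ∀ x, Semi id (g * uU x * g⁻¹) → x = 0 := fun x hx => by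
      have e := eq_one_of_two_axes hv hv1 hgv hgZ (hfix x) hx
        (by rw [show g⁻¹ * (g * uU x * g⁻¹) * g = uU x by group]; exact Semi.sl _)
      rw [conj_eq_one_iff] at e
      exact uU_injective (e.trans uU_zero.symm)
    have hne' : ∀ x, x ≠ 0 → σ x ≠ id := fun x hx e => hx (lin0 x (e ▸ hσ x))
    obtain ⟨k, hk0, hk1⟩ : ∃ k : F, k ≠ 0 ∧ k ≠ 1 := by
      obtain ⟨z, h1, h2, -⟩ := exists_good_scalar hq
      haveI : CharP F p := charP_of_injective_algebraMap (algebraMap (ZMod p) F).injective p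
      haveI : CharP F 2 := hp ▸ ‹CharP F p›
      exact ⟨z, h1, fun e => h2 (by rw [e, CharTwo.add_self_eq_zero])⟩
    have h1k := lin0 (1 + k) (by
      rw [uU_add, show g * (uU 1 * uU k) * g⁻¹ = g * uU 1 * g⁻¹ * (g * uU k * g⁻¹) by group]
      exact (hσ 1).invol_mul (hσ k) (hsq 1) (hsq k) (hne' 1 one_ne_zero) (hne' k hk0))
    haveI : CharP F p := charP_of_injective_algebraMap (algebraMap (ZMod p) F).injective p
    haveI : CharP F 2 := hp ▸ ‹CharP F p›
    exact hk1 (CharTwo.add_eq_zero.1 h1k).symm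
  set u' := g * uU h * g⁻¹ with hu'
  clear_value u'
  have hu'G : u' ∈ G := hu' ▸ mul_mem (mul_mem hg (hU h)) (inv_mem hg)
  have hu'2 : u' * u' = 1 := by
    rw [hu', show g * uU h * g⁻¹ * (g * uU h * g⁻¹) = g * (uU h * uU h) * g⁻¹ by group,
      uU_mul_self hp]; group
  have hu'v : u' • v = v := by rw [hu', mul_smul, mul_smul, uU_fix_v hgv, smul_inv_smul]
  have hh0 : h ≠ 0 := fun e => hh (by
    rw [hu', e, uU_zero, mul_one, mul_inv_cancel]; exact fun w hw => by rw [one_smul]; exact hw)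
  -- the three classes
  let C1 : Finset F := Finset.univ.filter fun a => a ≠ 0 ∧ PresZ (g⁻¹ * uU a * g)
  let C2 : Finset F := Finset.univ.filter fun a =>
    a ≠ 0 ∧ ¬ PresZ (g⁻¹ * uU a * g) ∧ Even (orderOf ((uU a : Aut2 p F) * u'))
  let C3 : Finset F := Finset.univ.filter fun a =>
    a ≠ 0 ∧ ¬ PresZ (g⁻¹ * uU a * g) ∧ ¬ Even (orderOf ((uU a : Aut2 p F) * u'))
  have hC1 : C1.card ≤ 1 := by
    rw [Finset.card_le_one]
    intro a ha b hb
    simp only [C1, Finset.mem_filter, Finset.mem_univ, true_and] at ha hb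
    have aux : ∀ a, a ≠ 0 → PresZ (g⁻¹ * uU a * g) →
        ∃ τ, Semi τ (g⁻¹ * uU a * g) ∧ τ ≠ id := by
      intro a ha hZ
      obtain ⟨τ, hτ⟩ := hG.exists_semi hq (mul_mem (mul_mem (inv_mem hg) (hU a)) hg) hZ
      refine ⟨τ, hτ, fun e => ha (uU_injective (p := p) ?_)⟩
      rw [uU_zero]
      exact eq_one_of_two_axes hv hv1 hgv hgZ (uU_fix_v hv1 a) (Semi.sl _) (e ▸ hτ)
    obtain ⟨τ, hτ, hτne⟩ := aux a ha.1 ha.2
    obtain ⟨τ', hτ', hτne'⟩ := aux b hb.1 hb.2
    have e := eq_one_of_two_axes hv hv1 hgv hgZ (d := uU a * uU b)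
      (by rw [mul_smul, uU_fix_v hv1, uU_fix_v hv1]) ((Semi.sl _).mul (Semi.sl _))
      (by
        rw [show g⁻¹ * (uU a * uU b) * g = g⁻¹ * uU a * g * (g⁻¹ * uU b * g) by group]
        exact hτ.invol_mul hτ' (conj_mul_self (uU_mul_self hp a)) (conj_mul_self (uU_mul_self hp b))
          hτne hτne')
    exact uU_injective ((mul_eq_one_iff_eq_inv.1 e).trans
      (inv_eq_of_mul_eq_one_right (uU_mul_self hp b)))
  have hrev : ∀ a : F, SemiconjBy (uU a : Aut2 p F) (uU a * u') (uU a * u')⁻¹ := fun a => by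
    show uU a * (uU a * u') = (uU a * u')⁻¹ * uU a
    rw [_root_.mul_inv_rev, inv_eq_of_mul_eq_one_right (uU_mul_self hp a),
      inv_eq_of_mul_eq_one_right hu'2, ← mul_assoc, uU_mul_self hp a, one_mul, mul_assoc,
      uU_mul_self hp a, mul_one]
  have hrev' : ∀ a : F, SemiconjBy u' (uU a * u') (uU a * u')⁻¹ := fun a => by
    show u' * (uU a * u') = (uU a * u')⁻¹ * u'
    rw [_root_.mul_inv_rev, inv_eq_of_mul_eq_one_right (uU_mul_self hp a),
      inv_eq_of_mul_eq_one_right hu'2, mul_assoc]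
  have hpow : ∀ (a : F) (k : ℕ), (uU a * u') ^ k • v = v := fun a k => by
    induction k with
    | zero => rw [pow_zero, one_smul]
    | succ n ih => rw [pow_succ, mul_smul, mul_smul, hu'v, uU_fix_v hv1, ih]
  -- the central involutions
  have hC2 : (insert 0 C2).card * 4 ≤ Nat.card F := by
    by_cases hemp : C2 = ∅
    · simp only [hemp, insert_empty_eq, Finset.card_singleton]; omega
    have key : ∀ a ∈ C2, ∃ (z : Aut2 p F) (σ : F → F), z * z = 1 ∧ z * uU a = uU a * z ∧
        z • v = v ∧ Semi σ z ∧ σ ≠ id ∧ ∃ τ, Semi τ (g⁻¹ * z * g) ∧ τ ≠ id := by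
      intro a ha
      simp only [C2, Finset.mem_filter, Finset.mem_univ, true_and] at ha
      obtain ⟨ha0, hna, k, hk⟩ := ha
      set r := (uU a : Aut2 p F) * u' with hrdef
      have hord : 0 < orderOf r := orderOf_pos r
      have hz2 : r ^ k * r ^ k = 1 := by rw [← pow_add, ← hk, pow_orderOf_eq_one]
      have hz1 : r ^ k ≠ 1 := pow_ne_one_of_lt_orderOf (by omega) (by omega)
      have hinv : r⁻¹ ^ k = r ^ k := by rw [inv_pow, inv_eq_of_mul_eq_one_right hz2]
      have hzu : r ^ k * uU a = uU a * r ^ k := by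
        have := ((hrev a).pow_right k).eq
        rw [hinv] at this
        exact this.symm
      have hzu' : r ^ k * u' = u' * r ^ k := by
        have := ((hrev' a).pow_right k).eq
        rw [hinv] at this
        exact this.symm
      have hzg : g⁻¹ * r ^ k * g * uU h = uU h * (g⁻¹ * r ^ k * g) := by
        calc g⁻¹ * r ^ k * g * uU h = g⁻¹ * (r ^ k * u') * g := by rw [hu']; group
          _ = g⁻¹ * (u' * r ^ k) * g := by rw [hzu']
          _ = _ := by rw [hu']; group
      have hzG : r ^ k ∈ G := pow_mem (mul_mem (hU a) hu'G) k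
      obtain ⟨σ, hσ⟩ := hG.exists_semi hq hzG (presZ_of_commute ha0 hzu)
      obtain ⟨τ, hτ⟩ := hG.exists_semi hq (mul_mem (mul_mem (inv_mem hg) hzG) hg)
        (presZ_of_commute hh0 hzg)
      refine ⟨r ^ k, σ, hz2, hzu, hpow a k, hσ, ?_, τ, hτ, ?_⟩
      · rintro rfl
        obtain ⟨m, hm⟩ : ∃ m, r ^ k = uU m := ⟨_, linear_invol_two hp hv hv1 hσ (hpow a k) hz2⟩
        have hm0 : m ≠ 0 := fun e => hz1 (by rw [hm, e, uU_zero])
        exact hh (presZ_of_commute hm0 (by rw [← hm]; exact hzu'.symm))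
      · rintro rfl
        obtain ⟨n, hn⟩ : ∃ n, g⁻¹ * r ^ k * g = uU n :=
          ⟨_, linear_invol_two hp hne hgv hτ (fixg _ (hpow a k)) (conj_mul_self hz2)⟩
        have hn0 : n ≠ 0 := fun e => hz1 (by
          calc r ^ k = g * (g⁻¹ * r ^ k * g) * g⁻¹ := by group
            _ = 1 := by rw [hn, e, uU_zero]; group)
        refine hna (presZ_of_commute hn0 ?_)
        rw [← hn]
        calc g⁻¹ * uU a * g * (g⁻¹ * r ^ k * g) = g⁻¹ * (uU a * r ^ k) * g := by group
          _ = g⁻¹ * (r ^ k * uU a) * g := by rw [hzu]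
          _ = _ := by group
    obtain ⟨a0, ha0⟩ := Finset.nonempty_iff_ne_empty.2 hemp
    obtain ⟨z, σ, hz2, hzu0, hzv, hσ, hσne, τ, hτ, hτne⟩ := key a0 ha0
    have ha00 : a0 ≠ 0 := by
      simp only [C2, Finset.mem_filter, Finset.mem_univ, true_and] at ha0; exact ha0.1
    have hall : ∀ a ∈ insert 0 C2, σ (a / a0) = a / a0 := by
      intro a ha
      have hc : z * uU a = uU a * z := by
        rcases Finset.mem_insert.1 ha with rfl | ha
        · rw [uU_zero, one_mul, mul_one]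
        obtain ⟨z', σ', hz'2, hz'u, hz'v, hσ', hσne', τ', hτ', hτne'⟩ := key a ha
        have e := eq_one_of_two_axes hv hv1 hgv hgZ (d := z * z') (by rw [mul_smul, hz'v, hzv])
          (hσ.invol_mul hσ' hz2 hz'2 hσne hσne')
          (by
            rw [show g⁻¹ * (z * z') * g = g⁻¹ * z * g * (g⁻¹ * z' * g) by group]
            exact hτ.invol_mul hτ' (conj_mul_self hz2) (conj_mul_self hz'2) hτne hτne')
        rwa [mul_eq_one_iff_eq_inv.1 e, inv_eq_of_mul_eq_one_right hz'2]
      have hv0 := v0_ne hv hv1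
      have e0 := scalar_of_commute_uU hv hv1 hσ hzv hzu0
      have ea := scalar_of_commute_uU hv hv1 hσ hzv hc
      have hb0 : a0 / v 0 ≠ 0 := div_ne_zero ha00 hv0
      rw [show a / a0 = (a / v 0) / (a0 / v 0) by field_simp, ← hσ.aut_apply, map_div₀,
        hσ.aut_apply, hσ.aut_apply, ea, e0]
      have hne0 : σ (a0 / v 0) ≠ 0 := by rw [← hσ.aut_apply]; exact (map_ne_zero _).2 hb0
      rw [mul_div_mul_right _ _ (right_ne_zero_of_mul (e0 ▸ hne0))]
    obtain ⟨e, he⟩ := Function.ne_iff.1 hσne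
    rw [id_eq] at he
    set S := insert 0 C2
    have hsq : S.card * S.card ≤ Fintype.card F := by
      rw [← Finset.card_product, ← Finset.card_univ]
      refine Finset.card_le_card_of_injOn (fun x => x.1 / a0 + e * (x.2 / a0))
        (fun _ _ => Finset.mem_univ _) ?_
      intro x hx y hy hxy
      simp only [Finset.mem_coe, Finset.mem_product] at hx hy
      simp only at hxy
      by_cases h2 : x.2 / a0 = y.2 / a0
      · rw [h2, add_left_inj, div_left_inj' ha00] at hxy
        exact Prod.ext hxy ((div_left_inj' ha00).1 h2)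
      refine absurd ?_ he
      have e' : e = (y.1 / a0 - x.1 / a0) / (x.2 / a0 - y.2 / a0) := by
        rw [eq_div_iff (sub_ne_zero.2 h2)]; linear_combination hxy
      rw [e', ← hσ.aut_apply, map_div₀, map_sub, map_sub]
      simp only [hσ.aut_apply, hall _ hx.1, hall _ hx.2, hall _ hy.1, hall _ hy.2]
    rw [Nat.card_eq_fintype_card] at hq ⊢
    have hq' : Fintype.card F = 2 ^ Module.finrank (ZMod p) F := by
      rw [← Nat.card_eq_fintype_card, natCard_field (p := p)]
      exact congrArg (· ^ Module.finrank (ZMod p) F) hp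
    by_contra hlt
    have h3 : 3 ≤ Module.finrank (ZMod p) F := by
      by_contra h3
      rw [hq'] at hq
      have : 2 ^ Module.finrank (ZMod p) F ≤ 2 ^ 2 := Nat.pow_le_pow_right two_pos (by omega)
      omega
    have h8 : 8 ∣ Fintype.card F := by rw [hq']; exact pow_dvd_pow 2 h3
    have h16 : Fintype.card F < 16 := by
      have := Nat.mul_lt_mul'' (not_le.1 hlt) (not_le.1 hlt)
      nlinarith
    have h8' : Fintype.card F = 8 := by omega
    rw [h8'] at hsq hlt
    have := Nat.mul_le_mul (show 3 ≤ S.card by omega) (show 3 ≤ S.card by omega)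
    omega
  -- the conjugating involutions
  have hC3 : C3.card ≤ Module.finrank (ZMod p) F := by
    have key : ∀ a ∈ C3, ∃ w : Aut2 p F, w ∈ G ∧ w * w = 1 ∧ w • v = v ∧ w * uU a = u' * w ∧
        PresZ (g⁻¹ * w) := by
      intro a ha
      simp only [C3, Finset.mem_filter, Finset.mem_univ, true_and] at ha
      obtain ⟨ha0, -, hodd⟩ := ha
      obtain ⟨k, hk⟩ := Nat.not_even_iff_odd.1 hodd
      set r := (uU a : Aut2 p F) * u' with hrdef
      refine ⟨uU a * r ^ (k + 1), mul_mem (hU a) (pow_mem (mul_mem (hU a) hu'G) _), ?_,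
        by rw [mul_smul, hpow, uU_fix_v hv1], ?_, ?_⟩
      · exact revPow_sq (uU_mul_self hp a) (hrev a) (k + 1)
      all_goals
        have hr : r ^ (k + 1) * r ^ (k + 1) = r := by
          rw [← pow_add, show k + 1 + (k + 1) = orderOf r + 1 by omega, pow_succ,
            pow_orderOf_eq_one, one_mul]
        have hww : uU a * r ^ (k + 1) * uU a = u' * (uU a * r ^ (k + 1)) := by
          have hw2 : uU a * r ^ (k + 1) * (uU a * r ^ (k + 1)) = 1 :=
            revPow_sq (uU_mul_self hp a) (hrev a) (k + 1)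
          have h1 : uU a * r ^ (k + 1) * uU a * (uU a * r ^ (k + 1)) = u' := by
            rw [revPow_conj (uU_mul_self hp a), hr, hrdef, ← mul_assoc, uU_mul_self hp, one_mul]
          have h2 : (uU a * r ^ (k + 1))⁻¹ = uU a * r ^ (k + 1) := inv_eq_of_mul_eq_one_right hw2
          calc uU a * r ^ (k + 1) * uU a
              = uU a * r ^ (k + 1) * uU a * (uU a * r ^ (k + 1)) * (uU a * r ^ (k + 1))⁻¹ := by group
            _ = _ := by rw [h1, h2]
      · exact hww
      · refine presZ_of_conj hh0 (b := a) ?_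
        rw [mul_assoc, hww, hu']
        group
    by_cases hemp : C3 = ∅
    · rw [hemp]; simp
    obtain ⟨a0, ha0⟩ := Finset.nonempty_iff_ne_empty.2 hemp
    choose W hW using key
    have hd : ∀ a (ha : a ∈ C3), PresZ (W a0 ha0 * W a ha) := by
      intro a ha
      have ha00 : a0 ≠ 0 := (Finset.mem_filter.1 ha0).2.1
      refine presZ_of_conj ha00 (b := a) ?_
      obtain ⟨-, h2, -, h4, -⟩ := hW a0 ha0
      have h5 : W a0 ha0 * u' = uU a0 * W a0 ha0 := by
        calc W a0 ha0 * u' = W a0 ha0 * (u' * W a0 ha0) * (W a0 ha0)⁻¹ := by group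
          _ = W a0 ha0 * W a0 ha0 * uU a0 * (W a0 ha0)⁻¹ := by rw [← h4]; group
          _ = uU a0 * W a0 ha0 := by rw [h2, one_mul, inv_eq_of_mul_eq_one_right h2]
      rw [mul_assoc, (hW a ha).2.2.2.1, ← mul_assoc, h5, mul_assoc]
    have hsemi : ∀ a (ha : a ∈ C3), ∃ σ, Semi σ (W a0 ha0 * W a ha) := fun a ha =>
      hG.exists_semi hq (mul_mem (hW a0 ha0).1 (hW a ha).1) (hd a ha)
    choose σ hσ using hsemi
    obtain ⟨μ, hμ⟩ := hG.exists_semi hq (mul_mem (inv_mem hg) (hW a0 ha0).1) (hW a0 ha0).2.2.2.2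
    let f : {a // a ∈ C3} → (F ≃+* F) := fun a => (hσ a.1 a.2).aut
    have hf : Function.Injective f := by
      rintro ⟨a, ha⟩ ⟨b, hb⟩ hab
      have hσe : σ a ha = σ b hb := funext fun x => RingEquiv.congr_fun hab x
      have hA := hW a ha
      have hB := hW b hb
      have h0 := (hW a0 ha0).2.1
      have i0 := inv_eq_of_mul_eq_one_right h0
      have hlin : Semi id (W a ha * W b hb) := by
        have := (hσ a ha).inv_mul_same (hσe ▸ hσ b hb)
        rwa [_root_.mul_inv_rev, inv_eq_of_mul_eq_one_right hA.2.1, i0, mul_assoc, ← mul_assoc (W a0 ha0),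
          h0, one_mul] at this
      have hlin2 : Semi id (g⁻¹ * (W a ha * W b hb) * g) := by
        have h1 := hμ.conj ((hσ a ha).mul_inv_same (hσe ▸ hσ b hb))
        rw [_root_.mul_inv_rev, _root_.mul_inv_rev, inv_inv, inv_eq_of_mul_eq_one_right hB.2.1, i0] at h1
        convert h1 using 1
        calc g⁻¹ * (W a ha * W b hb) * g
            = g⁻¹ * ((W a0 ha0 * W a0 ha0) * (W a ha * W b hb) * (W a0 ha0 * W a0 ha0)) * g := by
              rw [h0, one_mul, mul_one]
          _ = _ := by group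
      have e := eq_one_of_two_axes hv hv1 hgv hgZ (d := W a ha * W b hb)
        (by rw [mul_smul, hB.2.2.1, hA.2.2.1]) hlin hlin2
      have heq : W a ha = W b hb := by
        rw [mul_eq_one_iff_eq_inv.1 e, inv_eq_of_mul_eq_one_right hB.2.1]
      have h4 := hA.2.2.2.1
      rw [heq, ← hB.2.2.2.1, mul_right_inj] at h4
      exact Subtype.ext (uU_injective h4)
    have := (Nat.card_le_card_of_injective f hf).trans (natCard_autos_le (p := p))
    rwa [Nat.card_eq_fintype_card, Fintype.card_coe] at this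
  have htot : Fintype.card F ≤ C1.card + (insert 0 C2).card + C3.card := by
    rw [← Finset.card_univ]
    refine le_trans (Finset.card_le_card ?_) ((Finset.card_union_le (C1 ∪ insert 0 C2) C3).trans
      (Nat.add_le_add_right (Finset.card_union_le _ _) _))
    intro a _
    simp only [C1, C2, C3, Finset.mem_union, Finset.mem_insert, Finset.mem_filter, Finset.mem_univ,
      true_and]
    tauto
  rw [Nat.card_eq_fintype_card] at hC2 hq
  have hq' : Fintype.card F = 2 ^ Module.finrank (ZMod p) F := by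
    rw [← Nat.card_eq_fintype_card, natCard_field (p := p)]
    exact congrArg (· ^ Module.finrank (ZMod p) F) hp
  have h3 : 3 ≤ Module.finrank (ZMod p) F := by
    by_contra h3
    rw [hq'] at hq
    have : 2 ^ Module.finrank (ZMod p) F ≤ 2 ^ 2 := Nat.pow_le_pow_right two_pos (by omega)
    omega
  have := three_mul_two_pow _ h3
  omega

/-- Additive maps of a plane over the prime field are linear. -/
theorem semi_id_of_prime (hq : Nat.card F = p) (g : Aut2 p F) : Semi id g := by
  intro c w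
  have hs : Function.Surjective (algebraMap (ZMod p) F) :=
    ((Nat.bijective_iff_injective_and_card _).2
      ⟨(algebraMap (ZMod p) F).injective, by rw [Nat.card_zmod, hq]⟩).2
  obtain ⟨n, rfl⟩ := hs c
  rw [id_eq, algebraMap_smul, algebraMap_smul]
  exact (g : End2 p F).map_smul n w

theorem exists_sl_smul {v : Fin 2 → F} (hv : v ≠ 0) :
    ∃ A : SL(2, F), (slU A : Aut2 p F) • (![1, 0] : Fin 2 → F) = v := by
  by_cases h0 : v 0 = 0
  · have h1 : v 1 ≠ 0 := fun h => hv (by funext i; fin_cases i <;> simp [h, h0])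
    refine ⟨⟨!![0, -(v 1)⁻¹; v 1, 0], by simp [Matrix.det_fin_two_of, h1]⟩, ?_⟩
    show !![0, -(v 1)⁻¹; v 1, 0] *ᵥ (![1, 0] : Fin 2 → F) = v
    rw [mulVec_two']
    funext i; fin_cases i <;> simp [h0]
  · refine ⟨⟨!![v 0, 0; v 1, (v 0)⁻¹], by simp [Matrix.det_fin_two_of, h0]⟩, ?_⟩
    show !![v 0, 0; v 1, (v 0)⁻¹] *ᵥ (![1, 0] : Fin 2 → F) = v
    rw [mulVec_two']
    funext i; fin_cases i <;> simp

/-- A group of semilinear maps normalises the special linear group. -/
theorem normalizes_of_semi (hG : ∀ g ∈ G, ∃ σ, Semi σ g) :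
    G ≤ normalizer ((slU (p := p) (F := F)).range : Set (Aut2 p F)) := by
  intro g hg
  refine mem_normalizer_iff.2 fun x => ⟨?_, fun hx => ?_⟩
  · rintro ⟨A, rfl⟩
    obtain ⟨σ, hσ⟩ := hG g hg
    exact hσ.normalizes A
  · obtain ⟨A, hA⟩ := hx
    obtain ⟨σ, hσ⟩ := hG g⁻¹ (inv_mem hg)
    have := hσ.normalizes A
    rw [hA] at this
    simpa [mul_assoc] using this

/-- Outside the field of four elements the special linear group is normal. -/
theorem Embedded.normalizes (hG : Embedded G) (hq : 4 < Nat.card F ∨ Nat.card F = p) :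
    G ≤ normalizer ((slU (p := p) (F := F)).range : Set (Aut2 p F)) := by
  refine normalizes_of_semi fun g hg => ?_
  rcases hq with hq | hq
  swap
  · exact ⟨id, semi_id_of_prime hq g⟩
  have he : (![1, 0] : Fin 2 → F) ≠ 0 := fun h => one_ne_zero (congrFun h 0)
  obtain ⟨A, hA⟩ := exists_sl_smul (p := p) (v := g • (![1, 0] : Fin 2 → F))
    (fun h => he (MulAction.injective g (h.trans (smul_zero g).symm)))
  have hx : (slU A)⁻¹ * g ∈ G := mul_mem (inv_mem (hG.le ⟨A, rfl⟩)) hg
  have hxe : ((slU A)⁻¹ * g) • (![1, 0] : Fin 2 → F) = ![1, 0] := by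
    rw [mul_smul, inv_smul_eq_iff, hA]
  have hgv : (((slU A)⁻¹ * g)⁻¹ • (![1, 0] : Fin 2 → F)) 1 = 0 := by
    rw [inv_smul_eq_iff.2 hxe.symm]; rfl
  have hZ : PresZ ((slU A)⁻¹ * g) := by
    by_cases hp : p = 2
    · exact hG.presZ_two hq hp hx he rfl hgv
    · exact hG.presZ_odd hq hp hx he rfl hgv
  obtain ⟨σ, hσ⟩ := hG.exists_semi hq hx hZ
  exact ⟨id ∘ σ, by simpa using (Semi.sl A).mul hσ⟩

end Cfsg.Lib.Local.SL2Embed
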